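import Cfsg.Agent.Lib.Spor.SixSuz.Bound
import Cfsg.Agent.Lib.Spor.SixSuz.HomData
import Cfsg.Agent.Lib.Spor.Suz.Simple
import Cfsg.Agent.Lib.Schur.Lift

/-!
The centraliser modulo minus the element of order three is the presented Suzuki group, and the
kernel lies in the commutator subgroup.
-/

set_option autoImplicit false
set_option maxRecDepth 100000
set_option maxHeartbeats 0

namespace CfsgLib.Spor.SixSuz

open Cfsg CfsgLib.Spor CfsgLib.KnownB.Mult CfsgLib.PresCert
open CfsgLib.ThreeTransp.CoReduce
open Cfsg.Spor (Suz coxNodes coxLabel coxRelators)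

theorem zProg_fix : fixOK zProg = true := by decide +kernel

/-- minus the element of order three, in the centraliser -/
noncomputable def zH : sixSuz := hEl zProg zProg_fix

/-- negation on coordinate lists -/
def negL (l : List ℤ) : List ℤ := l.map fun x => -x

theorem zProg_eq : ∃ a : ℕ, zProg = xProg ++ [.mono a 16777215] ∧
    (List.range 24).all (fun i => Nat.beq (getP a i) i) = true :=
  ⟨_, rfl, by decide +kernel⟩

theorem runP_append : ∀ (P Q : List Stp) (l : List ℤ), runP (P ++ Q) l = runP Q (runP P l)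
  | [], _, _ => rfl
  | _ :: P, Q, _ => runP_append P Q _

theorem zH_apply (v : leechLattice) : (zH : Equiv.Perm leechLattice) v = -(xEl v) := by
  obtain ⟨a, e, ha⟩ := zProg_eq
  have hz := (elt_spec (Bool.and_eq_true_iff.1 zProg_fix).1).1 v
  have hx := (elt_spec xProg_ok).1 v
  rw [e, runP_append, ← hx] at hz
  refine Subtype.ext (lOf_inj ?_)
  show lOf _ = lOf _
  refine Eq.trans (show lOf (((zH : Equiv.Perm leechLattice) v : leechLattice) : GolayPt → ℤ) =
    lOf ((elt zProg • v : leechLattice) : GolayPt → ℤ) from rfl) ?_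
  rw [e, hz]
  simp only [runP, Stp.run]
  refine List.map_congr_left fun i hi => ?_
  have hi' := List.mem_range.1 hi
  have h1 : Nat.testBit 16777215 i = true := by
    revert hi'; revert i; decide +kernel
  rw [h1, if_pos rfl, Nat.eq_of_beq_eq_true (List.all_eq_true.1 ha i hi), lOf_getD _ hi']
  rfl

theorem apply_neg {f : Equiv.Perm leechLattice} (hf : f ∈ Co0) (v : leechLattice) :
    f (-v) = -f v :=
  map_neg (asHom f hf) v

theorem zH_central (g : sixSuz) : g * zH = zH * g := by
  refine Subtype.ext (Equiv.ext fun v => ?_)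
  show (g : Equiv.Perm leechLattice) ((zH : Equiv.Perm leechLattice) v) =
    (zH : Equiv.Perm leechLattice) ((g : Equiv.Perm leechLattice) v)
  rw [zH_apply, zH_apply, apply_neg (sixSuz_le g.2)]
  congr 1
  have hc := Subgroup.mem_centralizer_singleton_iff.1 (Subgroup.mem_inf.1 g.2).2
  exact congrArg (fun f : Equiv.Perm leechLattice => f v) hc

/-- the subgroup generated by minus the element of order three -/
noncomputable def zSub : Subgroup sixSuz := Subgroup.zpowers zH

theorem zSub_le_center : zSub ≤ Subgroup.center sixSuz :=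
  Subgroup.zpowers_le.2 (Subgroup.mem_center_iff.2 fun g => zH_central g)

instance zSub_normal : zSub.Normal :=
  ⟨fun n hn g => by
    have := Subgroup.mem_center_iff.1 (zSub_le_center hn) g
    rwa [this, mul_inv_cancel_right]⟩

theorem zPows_ok : eqW (zPows.getD 0 []) oneM = true ∧ eqW (zPows.getD 1 []) (fastMat zProg) = true ∧
    ((List.range 5).all fun k => eqW (zPows.getD (k + 1) [])
      (mulM (fastMat zProg) (zPows.getD k []))) = true ∧
    eqW oneM (mulM (fastMat zProg) (zPows.getD 5 [])) = true ∧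
    ((List.range 5).all fun k => !eqW (zPows.getD (k + 1) []) oneM) = true := by
  refine ⟨?_, ?_, ?_, ?_, ?_⟩ <;> decide +kernel

theorem colsOf_zpow : ∀ k ≤ 5,
    colsOf ((zH ^ k : sixSuz) : Equiv.Perm leechLattice) = zPows.getD k []
  | 0, _ => by rw [pow_zero, OneMemClass.coe_one, colsOf_one, eqW_iff.1 zPows_ok.1]
  | k + 1, hk => by
    rw [pow_succ', Subgroup.coe_mul, colsOf_mul (sixSuz_le zH.2), colsOf_zpow k (by omega)]
    rw [zH, colsOf_hEl]
    exact (eqW_iff.1 (List.all_eq_true.1 zPows_ok.2.2.1 k (List.mem_range.2 (by omega)))).symm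

theorem orderOf_zH : orderOf zH = 6 := by
  refine (orderOf_eq_iff (by norm_num)).2 ⟨?_, fun m hm hm0 h => ?_⟩
  · refine Subtype.ext (colsOf_injective (sixSuz_le (zH ^ 6).2) Co0.one_mem ?_)
    rw [pow_succ', Subgroup.coe_mul, colsOf_mul (sixSuz_le zH.2), colsOf_zpow 5 le_rfl,
      OneMemClass.coe_one, colsOf_one, zH, colsOf_hEl, ← eqW_iff.1 zPows_ok.2.2.2.1]
  · obtain ⟨k, rfl⟩ := Nat.exists_eq_add_one.2 hm0
    have h1 := colsOf_zpow (k + 1) (by omega)
    rw [h, OneMemClass.coe_one, colsOf_one] at h1
    have h2 := List.all_eq_true.1 zPows_ok.2.2.2.2 k (List.mem_range.2 (by omega))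
    rw [eqW_iff.2 h1.symm] at h2
    simp at h2

theorem natCard_zSub : Nat.card zSub = 6 := by rw [zSub, Nat.card_zpowers, orderOf_zH]

/-- the numbering of the generators -/
abbrev gIdx : Suz.Gen → ℕ := CfsgLib.Spor.Suz.idx

theorem genProgs_fix (s : Suz.Gen) : fixOK (genProgs.getD (gIdx s) []) = true := by
  revert s
  intro s
  cases s <;> decide +kernel

/-- a lift of a generator -/
noncomputable def liftGen (s : Suz.Gen) : sixSuz := hEl _ (genProgs_fix s)

theorem genMats_ok : ((List.range 7).all fun i =>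
    eqW (genMats.getD i []) (fastMat (genProgs.getD i []))) = true := by decide +kernel

theorem colsOf_liftGen (s : Suz.Gen) :
    colsOf (liftGen s : Equiv.Perm leechLattice) = genMats.getD (gIdx s) [] := by
  rw [liftGen, colsOf_hEl]
  exact (eqW_iff.1 (List.all_eq_true.1 genMats_ok _ (List.mem_range.2 (by cases s <;> decide)))).symm

/-- the matrix of a word in the lifts -/
def wordMat (w : List Suz.Gen) : List ℕ :=
  w.foldr (fun s m => mulM (genMats.getD (gIdx s) []) m) oneM

theorem colsOf_word : ∀ w : List Suz.Gen,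
    colsOf ((w.map liftGen).prod : Equiv.Perm leechLattice) = wordMat w
  | [] => by rw [List.map_nil, List.prod_nil, OneMemClass.coe_one, colsOf_one]; rfl
  | s :: w => by
    rw [List.map_cons, List.prod_cons, Subgroup.coe_mul, colsOf_mul (sixSuz_le (liftGen s).2),
      colsOf_word w, colsOf_liftGen]
    rfl

theorem word_eq {w : List Suz.Gen} {k : ℕ} (hk : k ≤ 5)
    (h : eqW (wordMat w) (zPows.getD k []) = true) : (w.map liftGen).prod = zH ^ k :=
  Subtype.ext (colsOf_injective (sixSuz_le (Subtype.property _)) (sixSuz_le (Subtype.property _))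
    (by rw [colsOf_word, colsOf_zpow k hk, eqW_iff.1 h]))

/-- the test of one relator word -/
def wordOk (w : List Suz.Gen) : Bool :=
  (List.range 6).any fun k => eqW (wordMat w) (zPows.getD k [])

theorem pair_a : (CfsgLib.Spor.Suz.allGens.all fun y => wordOk (pairWord Suz.edges Suz.Gen.a y)) = true := by
  decide +kernel

theorem pair_b : (CfsgLib.Spor.Suz.allGens.all fun y => wordOk (pairWord Suz.edges Suz.Gen.b y)) = true := by
  decide +kernel

theorem pair_c : (CfsgLib.Spor.Suz.allGens.all fun y => wordOk (pairWord Suz.edges Suz.Gen.c y)) = true := by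
  decide +kernel

theorem pair_d : (CfsgLib.Spor.Suz.allGens.all fun y => wordOk (pairWord Suz.edges Suz.Gen.d y)) = true := by
  decide +kernel

theorem pair_e : (CfsgLib.Spor.Suz.allGens.all fun y => wordOk (pairWord Suz.edges Suz.Gen.e y)) = true := by
  decide +kernel

theorem pair_f : (CfsgLib.Spor.Suz.allGens.all fun y => wordOk (pairWord Suz.edges Suz.Gen.f y)) = true := by
  decide +kernel

theorem pair_g : (CfsgLib.Spor.Suz.allGens.all fun y => wordOk (pairWord Suz.edges Suz.Gen.g y)) = true := by
  decide +kernel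

theorem extra_0 : ((CfsgLib.Spor.Suz.extraW.drop 0).take 1).all wordOk = true := by decide +kernel

theorem extra_1 : ((CfsgLib.Spor.Suz.extraW.drop 1).take 1).all wordOk = true := by decide +kernel

theorem extra_2 : ((CfsgLib.Spor.Suz.extraW.drop 2).take 1).all wordOk = true := by decide +kernel

theorem extra_3 : ((CfsgLib.Spor.Suz.extraW.drop 3).take 1).all wordOk = true := by decide +kernel

theorem extra_4 : ((CfsgLib.Spor.Suz.extraW.drop 4).take 1).all wordOk = true := by decide +kernel

theorem extra_all : CfsgLib.Spor.Suz.extraW.all wordOk = true := by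
  rw [show CfsgLib.Spor.Suz.extraW = (CfsgLib.Spor.Suz.extraW.drop 0).take 1 ++ (CfsgLib.Spor.Suz.extraW.drop 1).take 1 ++
    (CfsgLib.Spor.Suz.extraW.drop 2).take 1 ++ (CfsgLib.Spor.Suz.extraW.drop 3).take 1 ++
    (CfsgLib.Spor.Suz.extraW.drop 4).take 1 from rfl]
  simp only [List.all_append, extra_0, extra_1, extra_2, extra_3, extra_4, Bool.and_self]

theorem known_ok : ((CfsgLib.Spor.Suz.known).all fun w =>
    (List.range 6).any fun k => eqW (wordMat w) (zPows.getD k [])) = true := by
  refine List.all_eq_true.2 fun w hw => ?_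
  show wordOk w = true
  rcases List.mem_append.1 hw with h | h
  · obtain ⟨x, -, h⟩ := List.mem_flatMap.1 h
    obtain ⟨y, -, rfl⟩ := List.mem_map.1 h
    have hy := CfsgLib.Spor.Suz.mem_allGens y
    cases x
    · exact List.all_eq_true.1 pair_a y hy
    · exact List.all_eq_true.1 pair_b y hy
    · exact List.all_eq_true.1 pair_c y hy
    · exact List.all_eq_true.1 pair_d y hy
    · exact List.all_eq_true.1 pair_e y hy
    · exact List.all_eq_true.1 pair_f y hy
    · exact List.all_eq_true.1 pair_g y hy
  · exact List.all_eq_true.1 extra_all w h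

/-- the images of the generators -/
noncomputable def genQ (s : Suz.Gen) : sixSuz ⧸ zSub := QuotientGroup.mk (liftGen s)

theorem known_one {w : List Suz.Gen} (hw : w ∈ CfsgLib.Spor.Suz.known) :
    (w.map genQ).prod = 1 := by
  obtain ⟨k, hk, h⟩ := List.any_eq_true.1 (List.all_eq_true.1 known_ok w hw)
  have e : (w.map genQ).prod = QuotientGroup.mk' zSub (w.map liftGen).prod := by
    rw [map_list_prod, List.map_map]; rfl
  rw [e, word_eq (by have := List.mem_range.1 hk; omega) h, QuotientGroup.mk'_apply,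
    QuotientGroup.eq_one_iff]
  exact Subgroup.npow_mem_zpowers zH k

theorem genQ_cox (x y : Suz.Gen) : (genQ x * genQ y) ^ coxLabel Suz.edges x y = 1 := by
  rw [← prod_map_replicate_pair genQ x y]
  refine known_one (List.mem_append_left _ (List.mem_flatMap.2
    ⟨x, CfsgLib.Spor.Suz.mem_nodes x, List.mem_map.2 ⟨y, CfsgLib.Spor.Suz.mem_nodes y, rfl⟩⟩))

theorem genQ_rels : ∀ r ∈ coxRelators Suz.edges ∪ {r | r ∈ Suz.extra},
    FreeGroup.lift genQ r = 1 := by
  rintro r (⟨x, hx, y, hy, rfl⟩ | hr)
  · rw [map_pow, map_mul, FreeGroup.lift_apply_of, FreeGroup.lift_apply_of]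
    exact genQ_cox x y
  · have hsq : ∀ x, genQ x * genQ x = 1 := fun x => by
      simpa [coxLabel] using genQ_cox x x
    have hm : FreeGroup.lift genQ r ∈ Suz.extra.map (FreeGroup.lift genQ) := List.mem_map.2 ⟨r, hr, rfl⟩
    rw [CfsgLib.Spor.Suz.wordsFor genQ hsq] at hm
    obtain ⟨w, hw, e⟩ := List.mem_map.1 hm
    rw [← e]
    exact known_one (List.mem_append_right _ hw)

/-- the map from the presented group -/
noncomputable def phi : Cfsg.Spor.Suz →* sixSuz ⧸ zSub := PresentedGroup.toGroup genQ_rels

theorem wordMat_a : ((List.range 6).all fun k => !eqW (wordMat [Suz.Gen.a]) (zPows.getD k [])) = true := by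
  decide +kernel

theorem phi_injective : Function.Injective phi := by
  haveI := CfsgLib.Spor.Suz.finite
  haveI := CfsgLib.Spor.Suz.isSuz.1
  rw [← MonoidHom.ker_eq_bot_iff]
  refine (IsSimpleGroup.eq_bot_or_eq_top_of_normal _ (MonoidHom.normal_ker phi)).resolve_right
    fun htop => ?_
  have h1 : phi (PresentedGroup.of Suz.Gen.a) = 1 :=
    MonoidHom.mem_ker.1 (htop ▸ Subgroup.mem_top _)
  rw [phi, PresentedGroup.toGroup.of, genQ, QuotientGroup.eq_one_iff, zSub,
    Subgroup.mem_zpowers_iff] at h1
  obtain ⟨m, hm⟩ := h1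
  rw [← zpow_mod_orderOf, orderOf_zH] at hm
  obtain ⟨k, hk⟩ := Int.eq_ofNat_of_zero_le (Int.emod_nonneg m (show ((6 : ℕ) : ℤ) ≠ 0 by norm_num))
  have hk6 : k < 6 := by
    have := Int.emod_lt_of_pos m (show (0 : ℤ) < ((6 : ℕ) : ℤ) by norm_num)
    omega
  rw [hk, zpow_natCast] at hm
  have h2 := colsOf_word [Suz.Gen.a]
  rw [List.map_cons, List.map_nil, List.prod_cons, List.prod_nil, mul_one, ← hm,
    colsOf_zpow k (by omega)] at h2
  have h3 := List.all_eq_true.1 wordMat_a k (List.mem_range.2 hk6)
  rw [eqW_iff.2 h2.symm] at h3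
  simp at h3

instance finite_centraliser : Finite sixSuz := finite_sixSuz

theorem natCard_quot_le : Nat.card (sixSuz ⧸ zSub) ≤ 448345497600 := by
  have h := zSub.card_eq_card_quotient_mul_card_subgroup
  rw [natCard_zSub] at h
  have := natCard_sixSuz_le
  omega

theorem phi_bijective : Function.Bijective phi := by
  refine phi_injective.bijective_of_nat_card_le ?_
  rw [CfsgLib.Spor.Suz.natCard]
  exact natCard_quot_le

theorem natCard_sixSuz : Nat.card sixSuz = 2690072985600 := by
  rw [zSub.card_eq_card_quotient_mul_card_subgroup, natCard_zSub,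
    ← Nat.card_eq_of_bijective phi phi_bijective, CfsgLib.Spor.Suz.natCard]

/-- the map onto the presented group -/
noncomputable def toSuz : sixSuz →* Cfsg.Spor.Suz :=
  (MulEquiv.ofBijective phi phi_bijective).symm.toMonoidHom.comp (QuotientGroup.mk' zSub)

theorem ker_toSuz : toSuz.ker = zSub := by
  ext g
  simp [toSuz, MonoidHom.mem_ker]

theorem stemComb_ok : (stemComb.all fun q => decide (q.2.1 ≤ 5) &&
      eqW (wordMat q.1) (zPows.getD q.2.1 [])) = true ∧
    ((CfsgLib.Spor.Suz.allGens).all fun s =>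
      decide ((stemComb.map fun q => (q.1.count s : ℤ) * q.2.2).sum = 0)) = true ∧
    (stemComb.map fun q => (q.2.1 : ℤ) * q.2.2).sum % 6 = 1 := by
  refine ⟨?_, ?_, ?_⟩ <;> decide +kernel

theorem zH_mem_commutator : zH ∈ commutator sixSuz := by
  rw [← Abelianization.ker_of, MonoidHom.mem_ker]
  set π : sixSuz →* Abelianization sixSuz := Abelianization.of
  have hsum : ∀ l : List (List Suz.Gen × ℕ × ℤ),
      (∀ q ∈ l, (q.1.map liftGen).prod = zH ^ q.2.1) →
      π zH ^ (l.map fun q => (q.2.1 : ℤ) * q.2.2).sum =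
        ∏ s ∈ CfsgLib.Spor.Suz.allGens.toFinset,
          π (liftGen s) ^ (l.map fun q => (q.1.count s : ℤ) * q.2.2).sum := by
    intro l
    induction l with
    | nil => simp
    | cons q l ih =>
      intro hq
      simp only [List.map_cons, List.sum_cons, zpow_add, Finset.prod_mul_distrib]
      rw [ih fun d hd => hq d (List.mem_cons_of_mem _ hd)]
      congr 1
      rw [zpow_mul, zpow_natCast, ← map_pow, ← hq q List.mem_cons_self, map_list_prod,
        List.map_map, Finset.prod_list_map_count, ← Finset.prod_zpow]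
      have hsub : q.1.toFinset ⊆ CfsgLib.Spor.Suz.allGens.toFinset := fun s _ =>
        List.mem_toFinset.2 (CfsgLib.Spor.Suz.mem_allGens s)
      rw [Finset.prod_subset hsub fun s _ hs => by
        rw [List.mem_toFinset] at hs
        simp [List.count_eq_zero.2 hs]]
      exact Finset.prod_congr rfl fun s _ => by
        rw [Function.comp_apply, ← zpow_natCast, ← zpow_mul]
  have hall := List.all_eq_true.1 stemComb_ok.1
  have h := hsum stemComb fun q hq => by
    have := hall q hq
    simp only [Bool.and_eq_true, decide_eq_true_eq] at this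
    exact word_eq this.1 this.2
  rw [Finset.prod_eq_one fun s hs => by
    have := List.all_eq_true.1 stemComb_ok.2.1 s (List.mem_toFinset.1 hs)
    rw [of_decide_eq_true this, zpow_zero]] at h
  have h6 : π zH ^ (6 : ℤ) = 1 := by
    rw [show (6 : ℤ) = ((6 : ℕ) : ℤ) from rfl, zpow_natCast, ← map_pow, ← orderOf_zH,
      pow_orderOf_eq_one, map_one]
  rw [← Int.mul_ediv_add_emod (stemComb.map fun q => (q.2.1 : ℤ) * q.2.2).sum 6, zpow_add, zpow_mul,
    h6, one_zpow, one_mul, stemComb_ok.2.2, zpow_one] at h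
  exact h

theorem isStem_toSuz : Cfsg.IsStemExtension toSuz := by
  refine ⟨?_, ?_, ?_⟩
  · exact (MulEquiv.ofBijective phi phi_bijective).symm.surjective.comp
      (QuotientGroup.mk'_surjective _)
  · rw [ker_toSuz]; exact zSub_le_center
  · rw [ker_toSuz]; exact Subgroup.zpowers_le.2 zH_mem_commutator

theorem hasCyclicSchurMultiplier_of_trivial (h : Cfsg.HasCyclicSchurMultiplier sixSuz 1) :
    Cfsg.HasCyclicSchurMultiplier Cfsg.Spor.Suz 6 := by
  haveI := CfsgLib.Spor.Suz.finite
  obtain ⟨e⟩ := CfsgLib.Schur.mult_equiv_ker_of_trivial _ isStem_toSuz h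
  have hcyc : IsCyclic zSub := Subgroup.isCyclic_zpowers zH
  exact CfsgLib.Schur.hasSchurMultiplier_iff.2 ⟨((mulEquivOfCyclicCardEq
    (by simp [Nat.card_zmod, natCard_zSub])).trans (MulEquiv.subgroupCongr ker_toSuz.symm)).trans
      e.symm⟩

end CfsgLib.Spor.SixSuz
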