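import Cfsg.Agent.Lib.Spor.SixSuz.Data
import Cfsg.Agent.Lib.KnownB.Mult.Co0Groups

/-!
The centraliser in `Co0` of an element of order three without fixed vectors, and codes for its
elements.
-/

set_option autoImplicit false
set_option maxRecDepth 100000

namespace CfsgLib.Spor.SixSuz

open Cfsg CfsgLib.Spor CfsgLib.KnownB.Mult

open Classical in
/-- the element of `Co0` given by a program -/
noncomputable def elt (P : List Stp) : Co0 :=
  if h : ∃ g : Co0, ActsAs g (runP P) then h.choose else 1

theorem elt_spec {P : List Stp} (h : P.all Stp.ok = true) :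
    ActsAs (elt P) (runP P) ∧ colsOf (elt P : Equiv.Perm leechLattice) = fastMat P := by
  obtain ⟨g, hg, hgm⟩ := exists_prog_fast h
  have he : ∃ g : Co0, ActsAs g (runP P) := ⟨g, hg⟩
  have hs : ActsAs (elt P) (runP P) := by rw [elt, dif_pos he]; exact he.choose_spec
  refine ⟨hs, ?_⟩
  have e : elt P = g := Subtype.ext (Equiv.ext fun v => Subtype.ext (lOf_inj
    (show lOf ((elt P • v : leechLattice) : GolayPt → ℤ) = lOf ((g • v : leechLattice) : GolayPt → ℤ) by
      rw [hs, hg])))
  rw [e, hgm]

/-- matrices compared on codes -/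
theorem elt_eq_of_fastMat {P Q : List Stp} (hP : P.all Stp.ok = true) (hQ : Q.all Stp.ok = true)
    (h : fastMat P = fastMat Q) : elt P = elt Q :=
  Subtype.ext (colsOf_injective (elt P).2 (elt Q).2 (by rw [(elt_spec hP).2, (elt_spec hQ).2, h]))

theorem xProg_ok : xProg.all Stp.ok = true := by decide +kernel

/-- the element of order three -/
noncomputable def xEl : Equiv.Perm leechLattice := (elt xProg : Equiv.Perm leechLattice)

theorem xEl_mem : xEl ∈ Co0 := (elt xProg).2

theorem colsOf_xEl : colsOf xEl = fastMat xProg := (elt_spec xProg_ok).2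

/-- the centraliser of the element of order three -/
noncomputable def sixSuz : Subgroup (Equiv.Perm leechLattice) :=
  Co0 ⊓ Subgroup.centralizer {xEl}

theorem sixSuz_le : sixSuz ≤ Co0 := inf_le_left

/-- the test that a program commutes with the element -/
def fixOK (P : List Stp) : Bool :=
  P.all Stp.ok && eqW (mulM (fastMat P) (fastMat xProg)) (mulM (fastMat xProg) (fastMat P))

theorem mem_of_fixOK (g : Co0) (P : List Stp) (hg : ActsAs g (runP P)) (h : fixOK P = true) :
    (g : Equiv.Perm leechLattice) ∈ sixSuz := by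
  simp only [fixOK, Bool.and_eq_true, eqW_iff] at h
  obtain ⟨hok, heq⟩ := h
  refine ⟨g.2, Subgroup.mem_centralizer_singleton_iff.2 ?_⟩
  obtain ⟨g', hg', hgm⟩ := exists_prog_fast hok
  have e : g = g' := Subtype.ext (Equiv.ext fun v => Subtype.ext (lOf_inj
    (show lOf ((g • v : leechLattice) : GolayPt → ℤ) = lOf ((g' • v : leechLattice) : GolayPt → ℤ) by
      rw [hg, hg'])))
  refine colsOf_injective (Co0.mul_mem g.2 xEl_mem) (Co0.mul_mem xEl_mem g.2) ?_
  rw [colsOf_mul g.2, colsOf_mul xEl_mem, colsOf_xEl, e, hgm, heq]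

/-- codes for the centraliser -/
noncomputable def sixCode : Code sixSuz (List ℕ × List Stp) :=
  coCode sixSuz sixSuz_le fixOK mem_of_fixOK

/-- the element of the centraliser given by a program -/
noncomputable def hEl (P : List Stp) (h : fixOK P = true) : sixSuz :=
  ⟨(elt P : Equiv.Perm leechLattice), mem_of_fixOK _ P (elt_spec (Bool.and_eq_true_iff.1 h).1).1 h⟩

theorem colsOf_hEl (P : List Stp) (h : fixOK P = true) :
    colsOf (hEl P h : Equiv.Perm leechLattice) = fastMat P :=
  (elt_spec (Bool.and_eq_true_iff.1 h).1).2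

end CfsgLib.Spor.SixSuz
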