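import Cfsg.Agent.Lib.Spor.SixSuz.ChainData

/-! Census of a class of short vectors, in parts. -/

set_option autoImplicit false
set_option maxRecDepth 100000
set_option maxHeartbeats 0
set_option Elab.async false

namespace CfsgLib.Spor.SixSuz

open CfsgLib.Spor CfsgLib.Spor.Census

theorem census1A : aList.countP (okAll classC1) = 0 := by decide +kernel

theorem census1B0 : (((octadList.drop 0).take 96).map (fB classC1)).sum = 480 := by decide +kernel

theorem census1B1 : (((octadList.drop 96).take 96).map (fB classC1)).sum = 384 := by decide +kernel

theorem census1B2 : (((octadList.drop 192).take 96).map (fB classC1)).sum = 320 := by decide +kernel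

theorem census1B3 : (((octadList.drop 288).take 96).map (fB classC1)).sum = 320 := by decide +kernel

theorem census1B4 : (((octadList.drop 384).take 96).map (fB classC1)).sum = 224 := by decide +kernel

theorem census1B5 : (((octadList.drop 480).take 96).map (fB classC1)).sum = 64 := by decide +kernel

theorem census1B6 : (((octadList.drop 576).take 96).map (fB classC1)).sum = 0 := by decide +kernel

theorem census1B7 : (((octadList.drop 672).take 96).map (fB classC1)).sum = 0 := by decide +kernel

theorem census1C0 : (((codeList.drop 0).take 512).map (fC classC1)).sum = 128 := by decide +kernel

theorem census1C1 : (((codeList.drop 512).take 512).map (fC classC1)).sum = 128 := by decide +kernel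

theorem census1C2 : (((codeList.drop 1024).take 512).map (fC classC1)).sum = 128 := by decide +kernel

theorem census1C3 : (((codeList.drop 1536).take 512).map (fC classC1)).sum = 128 := by decide +kernel

theorem census1C4 : (((codeList.drop 2048).take 512).map (fC classC1)).sum = 128 := by decide +kernel

theorem census1C5 : (((codeList.drop 2560).take 512).map (fC classC1)).sum = 128 := by decide +kernel

theorem census1C6 : (((codeList.drop 3072).take 512).map (fC classC1)).sum = 128 := by decide +kernel

theorem census1C7 : (((codeList.drop 3584).take 512).map (fC classC1)).sum = 128 := by decide +kernel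

theorem census1B : Parts 96 (fB classC1) octadList [480, 384, 320, 320, 224, 64, 0, 0] := by
  simp only [Parts, List.drop_drop, Nat.reduceAdd]
  exact ⟨census1B0, census1B1, census1B2, census1B3, census1B4, census1B5, census1B6, census1B7, List.drop_eq_nil_of_le (by decide +kernel)⟩

theorem census1C : Parts 512 (fC classC1) codeList [128, 128, 128, 128, 128, 128, 128, 128] := by
  simp only [Parts, List.drop_drop, Nat.reduceAdd]
  exact ⟨census1C0, census1C1, census1C2, census1C3, census1C4, census1C5, census1C6, census1C7, List.drop_eq_nil_of_le (by decide +kernel)⟩

theorem count_classC1 : count classC1 = 2816 := by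
  rw [count_of_parts census1A census1B census1C]
  rfl

end CfsgLib.Spor.SixSuz
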