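import Cfsg.Agent.Lib.Spor.SixSuz.Basic
import Cfsg.Agent.Lib.Spor.SixSuz.Census0
import Cfsg.Agent.Lib.Spor.SixSuz.Census1

/-!
An upper bound for the order of the centraliser: a chain of short vectors, the orbit of each under
the stabiliser of the earlier ones lying in a set of short vectors with prescribed inner products.
-/

set_option autoImplicit false
set_option maxRecDepth 100000
set_option maxHeartbeats 0

namespace CfsgLib.Spor.SixSuz

open Cfsg CfsgLib.Spor CfsgLib.Spor.Census CfsgLib.KnownB.Mult
open CfsgLib.ThreeTransp.CoReduce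

/-- membership in the list of all indices, by shape -/
def memOK : SIdx → Bool
  | .a i j _ _ => Nat.blt i j && Nat.blt j 24
  | .b m s => decide (m ∈ octadList) && decide (s ∈ (subs (bitsOf m)).1)
  | .c c j => Nat.blt c (2 ^ 24) && inCode c && Nat.blt j 24

theorem mem_allList : ∀ {k : SIdx}, memOK k = true → k ∈ allList
  | .a i j s t, h => by
    simp only [memOK, Bool.and_eq_true, Nat.blt_eq] at h
    refine List.mem_append_left _ (List.mem_append_left _ ?_)
    refine List.mem_flatMap.2 ⟨(i, j), ?_, ?_⟩
    · exact List.mem_flatMap.2 ⟨i, List.mem_range.2 (h.1.trans h.2), List.mem_map.2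
        ⟨j, List.mem_filter.2 ⟨List.mem_range.2 h.2, decide_eq_true h.1⟩, rfl⟩⟩
    · cases s <;> cases t <;> simp
  | .b m s, h => by
    simp only [memOK, Bool.and_eq_true, decide_eq_true_eq] at h
    exact List.mem_append_left _ (List.mem_append_right _
      (List.mem_flatMap.2 ⟨m, h.1, List.mem_map.2 ⟨s, h.2, rfl⟩⟩))
  | .c c j, h => by
    simp only [memOK, Bool.and_eq_true, Nat.blt_eq] at h
    exact List.mem_append_right _ (List.mem_flatMap.2
      ⟨c, mem_codeList_of_inCode h.1.1 h.1.2, List.mem_map.2 ⟨j, List.mem_range.2 h.2, rfl⟩⟩)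

/-- a key that separates the indices of a sorted list -/
def key : SIdx → ℕ
  | .a i j s t => (((i * 24 + j) * 2 + cond s 1 0) * 2) + cond t 1 0
  | .b m s => 2 ^ 64 + m * 2 ^ 24 + s
  | .c c j => 2 ^ 80 + c * 24 + j

/-- strictly increasing keys -/
def incr : List ℕ → Bool
  | [] => true
  | [_] => true
  | a :: b :: l => Nat.blt a b && incr (b :: l)

theorem incr_pairwise : ∀ {l : List ℕ}, incr l = true → l.Pairwise (· < ·)
  | [], _ => List.Pairwise.nil
  | [a], _ => List.pairwise_singleton _ _
  | a :: b :: l, h => by
    simp only [incr, Bool.and_eq_true, Nat.blt_eq] at h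
    have ih := incr_pairwise h.2
    refine List.pairwise_cons.2 ⟨fun x hx => ?_, ih⟩
    rcases List.mem_cons.1 hx with rfl | hx
    · exact h.1
    · exact h.1.trans ((List.pairwise_cons.1 ih).1 x hx)

/-- a count over all indices is a count over the listed class -/
theorem countP_class {C1 : List (Cls × ℤ)} {A : List SIdx}
    (hA : (A.all fun k => memOK k && okAll C1 k) = true) (hinc : incr (A.map key) = true)
    (hlen : count C1 = A.length) {C : List (Cls × ℤ)} (hC : ∀ q ∈ C1, q ∈ C) :
    allList.countP (okAll C) = A.countP (okAll C) := by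
  simp only [List.all_eq_true, Bool.and_eq_true] at hA
  have hnd : A.Nodup := List.Nodup.of_map key
    ((incr_pairwise hinc).imp fun h => Nat.ne_of_lt h)
  have hperm : (allList.filter (okAll C1)).Perm A := by
    refine ((List.subperm_of_subset hnd fun k hk => ?_).perm_of_length_le ?_).symm
    · exact List.mem_filter.2 ⟨mem_allList (hA k hk).1, (hA k hk).2⟩
    · rw [← List.countP_eq_length_filter, ← count_eq, hlen]
  rw [← hperm.countP_eq, List.countP_filter]
  refine List.countP_congr fun k _ => ?_
  simp only [okAll, List.all_eq_true, Bool.and_eq_true]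
  exact ⟨fun h => ⟨h, fun q hq => h q (hC q hq)⟩, fun h => h.1⟩

/-- the coordinates of an indexed vector agree with its masks -/
def clsOK (k : SIdx) (u : Cls) : Bool :=
  (List.range 24).all fun i => decide (clsVec u (pt i) = vec k (pt i))

theorem clsVec_eq {k : SIdx} {u : Cls} (h : clsOK k u = true) : clsVec u = vec k := by
  simp only [clsOK, List.all_eq_true, List.mem_range, decide_eq_true_eq] at h
  funext q
  have := h (idx q) (idx_lt q)
  rwa [pt_idx] at this

/-- both vectors of an entry are indexed, the second being the image of the first -/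
def entOK (e : Ent) : Bool :=
  memOK e.1 && memOK e.2.2.1 && clsOK e.1 e.2.1 && clsOK e.2.2.1 e.2.2.2 &&
    eqZ (runP xProg (lOf (vec e.1))) (lOf (vec e.2.2.1))

open Classical in
/-- the lattice vector of an index -/
noncomputable def pv (k : SIdx) : leechLattice :=
  if h : vec k ∈ leechLattice then ⟨vec k, h⟩ else 0

theorem pv_val {k : SIdx} (h : memOK k = true) : (pv k : GolayPt → ℤ) = vec k := by
  rw [pv, dif_pos (vec_mem (mem_allList h)).1]

theorem xEl_pv {e : Ent} (he : entOK e = true) : xEl (pv e.1) = pv e.2.2.1 := by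
  simp only [entOK, Bool.and_eq_true, eqZ_iff] at he
  refine Subtype.ext (lOf_inj ?_)
  have h := (elt_spec xProg_ok).1 (pv e.1)
  rw [pv_val he.1.1.1.1] at h
  rw [pv_val he.1.1.1.2, ← he.2, ← h]
  rfl

/-- the fixers of the first vectors of entries -/
noncomputable def fixers : List Ent → Subgroup (Equiv.Perm leechLattice)
  | [] => sixSuz
  | e :: r => fixers r ⊓ MulAction.stabilizer (Equiv.Perm leechLattice) (pv e.1)

theorem mem_fixers : ∀ {L : List Ent} {g : Equiv.Perm leechLattice}, g ∈ fixers L →
    g ∈ sixSuz ∧ ∀ e ∈ L, g (pv e.1) = pv e.1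
  | [], g, h => ⟨h, by simp⟩
  | e :: r, g, h => by
    obtain ⟨h1, h2⟩ := mem_fixers (Subgroup.mem_inf.1 h).1
    refine ⟨h1, fun d hd => ?_⟩
    rcases List.mem_cons.1 hd with rfl | hd
    · exact MulAction.mem_stabilizer_iff.1 (Subgroup.mem_inf.1 h).2
    · exact h2 d hd

theorem fix_image {g : Equiv.Perm leechLattice} (hg : g ∈ sixSuz) {e : Ent} (he : entOK e = true)
    (h : g (pv e.1) = pv e.1) : g (pv e.2.2.1) = pv e.2.2.1 := by
  rw [← xEl_pv he]
  have hc : g * xEl = xEl * g := Subgroup.mem_centralizer_singleton_iff.1 (Subgroup.mem_inf.1 hg).2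
  have := congrArg (fun f : Equiv.Perm leechLattice => f (pv e.1)) hc
  simp only [Equiv.Perm.mul_apply] at this
  rw [this, h]

/-- inner products with the vectors of entries -/
def conds : List Ent → SIdx → List (Cls × ℤ)
  | [], _ => []
  | e :: r, k => (e.2.1, val e.2.1 k) :: (e.2.2.2, val e.2.2.2 k) :: conds r k

theorem mem_conds : ∀ {L : List Ent} {k : SIdx} {q : Cls × ℤ}, q ∈ conds L k →
    ∃ e ∈ L, q = (e.2.1, val e.2.1 k) ∨ q = (e.2.2.2, val e.2.2.2 k)
  | e :: r, k, q, h => by
    rcases List.mem_cons.1 h with rfl | h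
    · exact ⟨e, List.mem_cons_self, Or.inl rfl⟩
    rcases List.mem_cons.1 h with rfl | h
    · exact ⟨e, List.mem_cons_self, Or.inr rfl⟩
    obtain ⟨d, hd, hq⟩ := mem_conds h
    exact ⟨d, List.mem_cons_of_mem _ hd, hq⟩

theorem orbit_subset {L : List Ent} (hL : L.all entOK = true) {e : Ent} (he : entOK e = true) :
    MulAction.orbit (fixers L) (pv e.1) ⊆ censusSet (conds L e.1) := by
  simp only [List.all_eq_true] at hL
  rintro _ ⟨g, rfl⟩
  obtain ⟨hg, hfix⟩ := mem_fixers g.2
  have he1 : memOK e.1 = true := by
    simp only [entOK, Bool.and_eq_true] at he; exact he.1.1.1.1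
  refine ⟨?_, fun q hq => ?_⟩
  · show sqNorm (((g : Equiv.Perm leechLattice) (pv e.1) : leechLattice) : GolayPt → ℤ) = 32
    rw [(sixSuz_le hg).2, pv_val he1]
    exact (vec_mem (mem_allList he1)).2
  · show dotInt _ (((g : Equiv.Perm leechLattice) (pv e.1) : leechLattice) : GolayPt → ℤ) = _
    obtain ⟨d, hd, hq⟩ := mem_conds hq
    have key : ∀ (k : SIdx) (u : Cls), memOK k = true → clsOK k u = true →
        (g : Equiv.Perm leechLattice) (pv k) = pv k →
        dotInt (clsVec u) (((g : Equiv.Perm leechLattice) (pv e.1) : leechLattice) : GolayPt → ℤ) =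
          val u e.1 := fun k u hk hu hf => by
      rw [← val_eq (mem_allList he1), clsVec_eq hu, ← pv_val hk, ← pv_val he1]
      conv_lhs => rw [← hf]
      exact dot_preserved (sixSuz_le hg) _ _
    have hd' := hL d hd
    have hdd := hd'
    simp only [entOK, Bool.and_eq_true] at hdd
    rcases hq with rfl | rfl
    · exact key _ _ hdd.1.1.1.1 hdd.1.1.2 (hfix d hd)
    · exact key _ _ hdd.1.1.1.2 hdd.1.2 (fix_image hg hd' (hfix d hd))

theorem card_fixers_cons {L : List Ent} {e : Ent} (hL : L.all entOK = true)
    (he : entOK e = true) {s : ℕ} (hs : count (conds L e.1) = s) (hs0 : 0 < s) :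
    Nat.card (fixers L) ≤ Nat.card (fixers (e :: L)) * s := by
  have hfin : (censusSet (conds L e.1)).Finite :=
    Set.finite_of_ncard_ne_zero (by rw [ncard_censusSet, hs]; omega)
  rw [← natCard_inf_stab (fixers L) (pv e.1)]
  refine Nat.mul_le_mul_left _ ?_
  rw [← hs, ← ncard_censusSet]
  exact Set.ncard_le_ncard (orbit_subset hL he) hfin

/-- the list of a class -/
def classL : Bool → List SIdx
  | false => classL0
  | true => classL1

/-- the conditions of a class -/
def classC : Bool → List (Cls × ℤ)
  | false => classC0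
  | true => classC1

/-- a step of the chain -/
def stepOK (L : List Ent) (st : Ent × Bool × ℕ) : Bool :=
  L.all entOK && entOK st.1 && ((classC st.2.1).all fun q => decide (q ∈ conds L st.1.1)) &&
    Nat.beq ((classL st.2.1).countP (okAll (conds L st.1.1))) st.2.2 && Nat.blt 0 st.2.2

/-- all steps -/
def chainOK : List Ent → List (Ent × Bool × ℕ) → Bool
  | _, [] => true
  | L, st :: r => stepOK L st && chainOK (st.1 :: L) r

/-- the entries in order of fixing -/
def chainEnd : List Ent → List (Ent × Bool × ℕ) → List Ent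
  | L, [] => L
  | L, st :: r => chainEnd (st.1 :: L) r

theorem class_ok0 : (classL0.all fun k => memOK k && okAll classC0 k) = true := by decide +kernel
theorem class_inc0 : incr (classL0.map key) = true := by decide +kernel
theorem class_len0 : count classC0 = classL0.length := by rw [count_classC0]; decide +kernel
theorem class_ok1 : (classL1.all fun k => memOK k && okAll classC1 k) = true := by decide +kernel
theorem class_inc1 : incr (classL1.map key) = true := by decide +kernel
theorem class_len1 : count classC1 = classL1.length := by rw [count_classC1]; decide +kernel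

theorem card_chain : ∀ (L : List Ent) (st : List (Ent × Bool × ℕ)), chainOK L st = true →
    Nat.card (fixers L) ≤ Nat.card (fixers (chainEnd L st)) * (st.map fun q => q.2.2).prod
  | L, [], _ => by simp [chainEnd]
  | L, st :: r, h => by
    simp only [chainOK, stepOK, Bool.and_eq_true, Nat.blt_eq, List.all_eq_true (l := classC _),
      decide_eq_true_eq, Nat.beq_eq] at h
    obtain ⟨⟨⟨⟨⟨hL, he⟩, hC⟩, hs⟩, hpos⟩, hr⟩ := h
    have hc : count (conds L st.1.1) = st.2.2 := by
      rw [count_eq, ← hs]
      rcases st with ⟨e, b, s⟩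
      cases b
      · exact countP_class class_ok0 class_inc0 class_len0 hC
      · exact countP_class class_ok1 class_inc1 class_len1 hC
    refine (card_fixers_cons hL he hc hpos).trans ?_
    rw [List.map_cons, List.prod_cons, chainEnd, mul_left_comm, mul_comm st.2.2]
    exact Nat.mul_le_mul_right _ (card_chain _ r hr)

theorem chain_ok : chainOK [ent0] steps = true := by decide +kernel

theorem chain_prod : (steps.map fun q => q.2.2).prod * 196560 = 2690072985600 := by decide +kernel

/-- the spanning vectors -/
def spanList0 : List SIdx :=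
  (ent0 :: steps.map Prod.fst).map (·.1) ++ (ent0 :: steps.map Prod.fst).map (·.2.2.1)

/-- a combination of indexed vectors modulo 13, at a coordinate -/
def combAt (W : List SIdx) (co : List ℕ) (i : ℕ) : ℕ :=
  ((List.range W.length).map fun t =>
    co.getD t 0 * ((vec (W.getD t (.a 0 1 false false)) (pt i)) % 13).toNat).sum % 13

theorem combAt_cast {W : List SIdx} (hW : W.all memOK = true) (co : List ℕ) (r : GolayPt) :
    ((combAt W co (idx r) : ℕ) : ZMod 13) = (∑ t ∈ Finset.range W.length,
      ((co.getD t 0 : ℕ) : ZMod 13) • red (pv (W.getD t (.a 0 1 false false)))) r := by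
  rw [combAt, ZMod.natCast_mod, Nat.cast_list_sum, List.map_map,
    ← List.sum_toFinset _ List.nodup_range, List.toFinset_range, Finset.sum_apply]
  refine Finset.sum_congr rfl fun t ht => ?_
  have htl := Finset.mem_range.1 ht
  have hok : memOK (W.getD t (.a 0 1 false false)) = true := by
    rw [List.getD_eq_getElem _ _ htl]
    exact List.all_eq_true.1 hW _ (List.getElem_mem htl)
  rw [Function.comp_apply, Nat.cast_mul, Pi.smul_apply, smul_eq_mul, pt_idx]
  congr 1
  rw [← Int.cast_natCast, Int.toNat_of_nonneg (Int.emod_nonneg _ (by norm_num))]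
  refine Eq.trans ((ZMod.intCast_eq_intCast_iff' _ (vec _ r) 13).2 (Int.emod_emod _ _)) ?_
  rw [← pv_val hok]
  rfl

/-- a map fixing spanning vectors modulo 13 is trivial modulo 13 -/
theorem redMap_eq_one_of_span {g : Equiv.Perm leechLattice} (hg : g ∈ Co0) {W : List SIdx}
    {Co : List (List ℕ)} (hW : W.all memOK = true)
    (hspan : ((List.range 24).all fun i => (List.range 24).all fun j =>
      Nat.beq (combAt W (Co.getD i []) j) (if i = j then 1 else 0)) = true)
    (hfix : ∀ k ∈ W, g (pv k) = pv k) : redMap g = 1 := by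
  refine LinearMap.pi_ext' fun q => LinearMap.ext_ring ?_
  show redMap g (Pi.single q 1) = Pi.single q 1
  have hs : (Pi.single q (1 : ZMod 13) : V13) = ∑ t ∈ Finset.range W.length,
      (((Co.getD (idx q) []).getD t 0 : ℕ) : ZMod 13) •
        red (pv (W.getD t (.a 0 1 false false))) := by
    funext r
    rw [← combAt_cast hW, Nat.eq_of_beq_eq_true (List.all_eq_true.1
      (List.all_eq_true.1 hspan (idx q) (List.mem_range.2 (idx_lt q))) (idx r)
      (List.mem_range.2 (idx_lt r)))]
    by_cases hqr : q = r
    · subst hqr; simp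
    · have : idx q ≠ idx r := fun e => hqr (by rw [← pt_idx q, e, pt_idx r])
      simp [this, Pi.single_eq_of_ne (Ne.symm hqr)]
  rw [hs, map_sum]
  refine Finset.sum_congr rfl fun t ht => ?_
  have htl := Finset.mem_range.1 ht
  rw [map_smul, redMap_red hg, hfix]
  rw [List.getD_eq_getElem _ _ htl]
  exact List.getElem_mem htl

theorem span_ok : ((List.range 24).all fun i => (List.range 24).all fun j =>
    Nat.beq (combAt spanList0 (spanCo.getD i []) j) (if i = j then 1 else 0)) = true := by
  decide +kernel

theorem spanList0_ok : spanList0.all memOK = true := by decide +kernel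

theorem chainEnd_mem : ∀ (L : List Ent) (st : List (Ent × Bool × ℕ)) (e : Ent),
    e ∈ L ∨ e ∈ st.map Prod.fst → e ∈ chainEnd L st
  | L, [], e, h => by
    rcases h with h | h
    · exact h
    · simp at h
  | L, st :: r, e, h => by
    refine chainEnd_mem _ r e ?_
    rcases h with h | h
    · exact Or.inl (List.mem_cons_of_mem _ h)
    · rcases List.mem_cons.1 h with rfl | h
      · exact Or.inl List.mem_cons_self
      · exact Or.inr h

theorem entOK_all : ((ent0 :: steps.map Prod.fst).all entOK) = true := by decide +kernel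

theorem span_fixed {g : Equiv.Perm leechLattice} {T : List Ent}
    (hT : T.all entOK = true) (hg : g ∈ sixSuz) (hfix : ∀ e ∈ T, g (pv e.1) = pv e.1) :
    ∀ k ∈ T.map (·.1) ++ T.map (·.2.2.1), g (pv k) = pv k := by
  intro k hk
  rcases List.mem_append.1 hk with h | h <;> obtain ⟨e, he, rfl⟩ := List.mem_map.1 h
  · exact hfix e he
  · exact fix_image hg (List.all_eq_true.1 hT e he) (hfix e he)

theorem fixers_end_eq_bot : fixers (chainEnd [ent0] steps) = ⊥ := by
  refine (Subgroup.eq_bot_iff_forall _).2 fun g hg => ?_
  obtain ⟨hg6, hfix⟩ := mem_fixers hg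
  have hm : redMap g = 1 := redMap_eq_one_of_span (sixSuz_le hg6) spanList0_ok span_ok
    (span_fixed entOK_all hg6 fun e he => hfix e (chainEnd_mem _ _ e (by
      rcases List.mem_cons.1 he with h | h
      · exact Or.inl (List.mem_cons.2 (Or.inl h))
      · exact Or.inr h)))
  refine colsOf_injective (sixSuz_le hg6) Co0.one_mem ?_
  simp only [colsOf, hm, redMap_one]

theorem finite_sixSuz : Finite sixSuz := by
  have : Finite Co0 := Nat.finite_of_card_ne_zero (by rw [natCard_Co0]; norm_num)
  exact Finite.of_injective _ (Subgroup.inclusion_injective sixSuz_le)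

theorem natCard_sixSuz_le : Nat.card sixSuz ≤ 2690072985600 := by
  have h0 : count (conds [] ent0.1) = 196560 := by
    rw [count_eq, ← length_allList]
    exact List.countP_eq_length.2 fun k _ => rfl
  have he0 : entOK ent0 = true := List.all_eq_true.1 entOK_all _ List.mem_cons_self
  have h1 := card_fixers_cons (L := []) rfl he0 h0 (by norm_num)
  have h2 := card_chain [ent0] steps chain_ok
  rw [fixers_end_eq_bot, Subgroup.card_bot, one_mul] at h2
  calc Nat.card sixSuz ≤ _ := h1
    _ ≤ (steps.map fun q => q.2.2).prod * 196560 := Nat.mul_le_mul_right _ h2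
    _ = _ := chain_prod

end CfsgLib.Spor.SixSuz
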