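import Cfsg.Agent.Lib.Spor.SixSuz.InvolData

/-! Census of a class of short vectors, in parts. -/

set_option autoImplicit false
set_option maxRecDepth 100000
set_option maxHeartbeats 0
set_option Elab.async false

namespace CfsgLib.Spor.SixSuz

open CfsgLib.Spor CfsgLib.Spor.Census

theorem census2A : aList.countP (okAll condsOut) = 112 := by decide +kernel

theorem census2B0 : (((octadList.drop 0).take 96).map (fB condsOut)).sum = 0 := by decide +kernel

theorem census2B1 : (((octadList.drop 96).take 96).map (fB condsOut)).sum = 0 := by decide +kernel

theorem census2B2 : (((octadList.drop 192).take 96).map (fB condsOut)).sum = 0 := by decide +kernel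

theorem census2B3 : (((octadList.drop 288).take 96).map (fB condsOut)).sum = 0 := by decide +kernel

theorem census2B4 : (((octadList.drop 384).take 96).map (fB condsOut)).sum = 0 := by decide +kernel

theorem census2B5 : (((octadList.drop 480).take 96).map (fB condsOut)).sum = 128 := by decide +kernel

theorem census2B6 : (((octadList.drop 576).take 96).map (fB condsOut)).sum = 0 := by decide +kernel

theorem census2B7 : (((octadList.drop 672).take 96).map (fB condsOut)).sum = 0 := by decide +kernel

theorem census2C0 : (((codeList.drop 0).take 512).map (fC condsOut)).sum = 0 := by decide +kernel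

theorem census2C1 : (((codeList.drop 512).take 512).map (fC condsOut)).sum = 0 := by decide +kernel

theorem census2C2 : (((codeList.drop 1024).take 512).map (fC condsOut)).sum = 0 := by decide +kernel

theorem census2C3 : (((codeList.drop 1536).take 512).map (fC condsOut)).sum = 0 := by decide +kernel

theorem census2C4 : (((codeList.drop 2048).take 512).map (fC condsOut)).sum = 0 := by decide +kernel

theorem census2C5 : (((codeList.drop 2560).take 512).map (fC condsOut)).sum = 0 := by decide +kernel

theorem census2C6 : (((codeList.drop 3072).take 512).map (fC condsOut)).sum = 0 := by decide +kernel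

theorem census2C7 : (((codeList.drop 3584).take 512).map (fC condsOut)).sum = 0 := by decide +kernel

theorem census2B : Parts 96 (fB condsOut) octadList [0, 0, 0, 0, 0, 128, 0, 0] := by
  simp only [Parts, List.drop_drop, Nat.reduceAdd]
  exact ⟨census2B0, census2B1, census2B2, census2B3, census2B4, census2B5, census2B6, census2B7, List.drop_eq_nil_of_le (by decide +kernel)⟩

theorem census2C : Parts 512 (fC condsOut) codeList [0, 0, 0, 0, 0, 0, 0, 0] := by
  simp only [Parts, List.drop_drop, Nat.reduceAdd]
  exact ⟨census2C0, census2C1, census2C2, census2C3, census2C4, census2C5, census2C6, census2C7, List.drop_eq_nil_of_le (by decide +kernel)⟩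

theorem count_condsOut : count condsOut = 240 := by
  rw [count_of_parts census2A census2B census2C]
  rfl

end CfsgLib.Spor.SixSuz
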