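import Cfsg.Agent.Lib.Spor.SixSuz.Hom
import Cfsg.Agent.Lib.Spor.SixSuz.InvolData
import Cfsg.Agent.Lib.Spor.SixSuz.Census2

/-!
Upper bounds for the centraliser of an involution in the centraliser of the element of order three,
and for the pointwise stabiliser of the short vectors it fixes.
-/

set_option autoImplicit false
set_option maxRecDepth 100000
set_option maxHeartbeats 0

namespace CfsgLib.Spor.SixSuz

open Cfsg CfsgLib.Spor CfsgLib.Spor.Census CfsgLib.KnownB.Mult
open CfsgLib.ThreeTransp.CoReduce

theorem tProg_fix : fixOK tProg = true := by decide +kernel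

/-- the involution -/
noncomputable def tEl : sixSuz := hEl tProg tProg_fix

theorem tMat_ok : eqW tMat (fastMat tProg) = true := by decide +kernel

theorem colsOf_tEl : colsOf (tEl : Equiv.Perm leechLattice) = tMat := by
  rw [tEl, colsOf_hEl, eqW_iff.1 tMat_ok]

theorem lOf_tEl (v : leechLattice) :
    lOf (((tEl : Equiv.Perm leechLattice) v : leechLattice) : GolayPt → ℤ) =
      runP tProg (lOf (v : GolayPt → ℤ)) :=
  (elt_spec (Bool.and_eq_true_iff.1 tProg_fix).1).1 v

/-- the indices outside the octad -/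
def outIdx : List ℕ := (List.range 24).filter fun i => !octO.testBit i

theorem condsOut_eq : condsOut = outIdx.map fun i => ([(1, 2 ^ i)], 0) := by decide +kernel

theorem tProg_shape : ∃ a s : ℕ, tProg = [Stp.mono a s] ∧
    (List.range 24).all (fun i => Nat.beq (getP a i) i && (octO.testBit i || s.testBit i)) = true :=
  ⟨_, _, rfl, by decide +kernel⟩

theorem dotInt_unit (x : GolayPt → ℤ) {i : ℕ} (hi : i < 24) :
    dotInt (clsVec [((1 : ℤ), 2 ^ i)]) x = x (pt i) := by
  have e : toSet (2 ^ i) = {pt i} := by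
    ext p
    rw [mem_toSet, Nat.testBit_two_pow, decide_eq_true_eq, Finset.mem_singleton]
    exact ⟨fun h => by rw [h, pt_idx], fun h => by rw [h, idx_pt hi]⟩
  rw [dotInt_clsVec]
  simp [e]

/-- vectors fixed by the involution vanish outside the octad -/
theorem mem_condsOut_of_fixed {v : leechLattice} (hv : sqNorm (v : GolayPt → ℤ) = 32)
    (h : (tEl : Equiv.Perm leechLattice) v = v) : v ∈ censusSet condsOut := by
  refine ⟨hv, fun q hq => ?_⟩
  rw [condsOut_eq] at hq
  obtain ⟨i, hi, rfl⟩ := List.mem_map.1 hq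
  obtain ⟨hi', hio⟩ := List.mem_filter.1 hi
  have hi24 := List.mem_range.1 hi'
  rw [dotInt_unit _ hi24]
  obtain ⟨a, s, e, ha⟩ := tProg_shape
  have ha' := List.all_eq_true.1 ha i hi'
  simp only [Bool.and_eq_true, Bool.or_eq_true, Nat.beq_eq] at ha'
  have hs : s.testBit i = true := ha'.2.resolve_left (by simpa using hio)
  have h1 := congrArg (fun l => l.getD i 0) (lOf_tEl v)
  rw [h, e] at h1
  simp only [runP, Stp.run, lOf_getD _ hi24] at h1
  rw [List.getD_eq_getElem _ _ (by simp [hi24]), List.getElem_map, List.getElem_range, if_pos hs,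
    ha'.1, lOf_getD _ hi24] at h1
  omega

theorem fixL_ok : (fixL.all fun k => memOK k && okAll condsOut k) = true := by decide +kernel
theorem fixL_inc : incr (fixL.map key) = true := by decide +kernel
theorem fixL_len : count condsOut = fixL.length := by rw [count_condsOut]; decide +kernel

theorem mem_class {C1 : List (Cls × ℤ)} {A : List SIdx}
    (hA : (A.all fun k => memOK k && okAll C1 k) = true) (hinc : incr (A.map key) = true)
    (hlen : count C1 = A.length) {v : leechLattice} (hv : v ∈ censusSet C1) :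
    ∃ k ∈ A, pv k = v := by
  obtain ⟨k, hk, hkv⟩ := exists_idx v.2 hv.1
  simp only [List.all_eq_true, Bool.and_eq_true] at hA
  have hnd : A.Nodup := List.Nodup.of_map key
    ((incr_pairwise hinc).imp fun h => Nat.ne_of_lt h)
  have hperm : (allList.filter (okAll C1)).Perm A := by
    refine ((List.subperm_of_subset hnd fun k hk => ?_).perm_of_length_le ?_).symm
    · exact List.mem_filter.2 ⟨mem_allList (hA k hk).1, (hA k hk).2⟩
    · rw [← List.countP_eq_length_filter, ← count_eq, hlen]
  have hok : okAll C1 k = true := by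
    simp only [okAll, List.all_eq_true, decide_eq_true_eq]
    intro q hq
    rw [← val_eq hk, hkv]
    exact hv.2 q hq
  have hkA := hperm.mem_iff.1 (List.mem_filter.2 ⟨hk, hok⟩)
  exact ⟨k, hkA, Subtype.ext ((pv_val (hA k hkA).1).trans hkv)⟩

deriving instance DecidableEq for SIdx

/-- a vector with its image under the involution -/
abbrev Node := Ent × Ent

/-- the entries of nodes -/
def flat (L : List Node) : List Ent := L.flatMap fun n => [n.1, n.2]

/-- the second entry is the image of the first -/
def nodeOK (n : Node) : Bool :=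
  entOK n.1 && entOK n.2 && eqZ (runP tProg (lOf (vec n.1.1))) (lOf (vec n.2.1))

theorem tEl_pv {n : Node} (h : nodeOK n = true) :
    (tEl : Equiv.Perm leechLattice) (pv n.1.1) = pv n.2.1 := by
  simp only [nodeOK, entOK, Bool.and_eq_true, eqZ_iff] at h
  refine Subtype.ext (lOf_inj ?_)
  rw [lOf_tEl, pv_val h.1.1.1.1.1.1, pv_val h.1.2.1.1.1.1, h.2]

/-- the fixers of nodes commuting with the involution -/
noncomputable def fixers2 (L : List Node) : Subgroup (Equiv.Perm leechLattice) :=
  fixers (flat L) ⊓ Subgroup.centralizer {(tEl : Equiv.Perm leechLattice)}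

theorem fixers2_inf_stab {L : List Node} {n : Node} (hn : nodeOK n = true) :
    fixers2 L ⊓ MulAction.stabilizer (Equiv.Perm leechLattice) (pv n.1.1) ≤ fixers2 (n :: L) := by
  rintro g ⟨⟨hg, hc⟩, hs⟩
  have hs' : g (pv n.1.1) = pv n.1.1 := MulAction.mem_stabilizer_iff.1 hs
  refine ⟨⟨⟨hg, ?_⟩, hs⟩, hc⟩
  refine MulAction.mem_stabilizer_iff.2 ?_
  show g (pv n.2.1) = pv n.2.1
  rw [← tEl_pv hn]
  have hc' : g * (tEl : Equiv.Perm leechLattice) = (tEl : Equiv.Perm leechLattice) * g :=
    Subgroup.mem_centralizer_singleton_iff.1 hc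
  have := congrArg (fun f : Equiv.Perm leechLattice => f (pv n.1.1)) hc'
  simp only [Equiv.Perm.mul_apply] at this
  rw [this, hs']

/-- the list of a class -/
def classL2 : ℕ → List SIdx
  | 0 => fixL
  | 1 => classL0
  | _ => classL1

/-- the conditions of a class -/
def classC2 : ℕ → List (Cls × ℤ)
  | 0 => condsOut
  | 1 => classC0
  | _ => classC1

/-- the conditions on the images of a node -/
def conds2 (L : List Node) (k : SIdx) (c : ℕ) : List (Cls × ℤ) :=
  match c with
  | 0 => conds (flat L) k ++ condsOut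
  | _ => conds (flat L) k

/-- a step -/
def step2OK (L : List Node) (st : Node × ℕ × ℕ) : Bool :=
  L.all nodeOK && nodeOK st.1 &&
    (!Nat.beq st.2.1 0 || eqZ (lOf (vec st.1.2.1)) (lOf (vec st.1.1.1))) &&
    ((classC2 st.2.1).all fun q => decide (q ∈ conds2 L st.1.1.1 st.2.1)) &&
    Nat.beq ((classL2 st.2.1).countP (okAll (conds2 L st.1.1.1 st.2.1))) st.2.2 && Nat.blt 0 st.2.2

theorem count_class2 : ∀ (c : ℕ) {C : List (Cls × ℤ)}, (∀ q ∈ classC2 c, q ∈ C) →
    allList.countP (okAll C) = (classL2 c).countP (okAll C)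
  | 0, _, h => countP_class fixL_ok fixL_inc fixL_len h
  | 1, _, h => countP_class class_ok0 class_inc0 class_len0 h
  | _ + 2, _, h => countP_class class_ok1 class_inc1 class_len1 h

theorem flat_ok {L : List Node} (h : L.all nodeOK = true) : (flat L).all entOK = true := by
  simp only [List.all_eq_true, flat, List.mem_flatMap] at h ⊢
  rintro e ⟨n, hn, he⟩
  have := h n hn
  simp only [nodeOK, Bool.and_eq_true] at this
  simp only [List.mem_cons, List.not_mem_nil, or_false] at he
  rcases he with rfl | rfl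
  · exact this.1.1
  · exact this.1.2

theorem orbit2_subset {L : List Node} (hL : L.all nodeOK = true) {n : Node} (hn : nodeOK n = true) :
    MulAction.orbit (fixers2 L) (pv n.1.1) ⊆ censusSet (conds (flat L) n.1.1) := by
  have he : entOK n.1 = true := by
    simp only [nodeOK, Bool.and_eq_true] at hn; exact hn.1.1
  refine subset_trans (fun v hv => ?_) (orbit_subset (flat_ok hL) he)
  obtain ⟨g, hg⟩ := MulAction.mem_orbit_iff.1 hv
  exact MulAction.mem_orbit_iff.2 ⟨⟨g.1, (Subgroup.mem_inf.1 g.2).1⟩, hg⟩

theorem orbit2_fixed {L : List Node} {n : Node} (hn : nodeOK n = true)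
    (hself : eqZ (lOf (vec n.2.1)) (lOf (vec n.1.1)) = true) :
    MulAction.orbit (fixers2 L) (pv n.1.1) ⊆ censusSet condsOut := by
  intro v hv
  obtain ⟨g, hg⟩ := MulAction.mem_orbit_iff.1 hv
  have hn' := hn
  simp only [nodeOK, entOK, Bool.and_eq_true] at hn'
  have hfix : (tEl : Equiv.Perm leechLattice) (pv n.1.1) = pv n.1.1 := by
    rw [tEl_pv hn]
    refine Subtype.ext (lOf_inj ?_)
    rw [pv_val hn'.1.2.1.1.1.1, pv_val hn'.1.1.1.1.1.1, eqZ_iff.1 hself]
  have hc : (g.1 : Equiv.Perm leechLattice) * (tEl : Equiv.Perm leechLattice) =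
      (tEl : Equiv.Perm leechLattice) * g.1 :=
    Subgroup.mem_centralizer_singleton_iff.1 (Subgroup.mem_inf.1 g.2).2
  have hg6 := (mem_fixers (Subgroup.mem_inf.1 g.2).1).1
  have hgfix : (tEl : Equiv.Perm leechLattice) v = v := by
    have := congrArg (fun f : Equiv.Perm leechLattice => f (pv n.1.1)) hc
    simp only [Equiv.Perm.mul_apply, hfix] at this
    rw [← hg]
    exact this.symm
  refine mem_condsOut_of_fixed ?_ hgfix
  rw [← hg]
  show sqNorm ((g.1 (pv n.1.1) : leechLattice) : GolayPt → ℤ) = 32
  rw [(sixSuz_le hg6).2, pv_val hn'.1.1.1.1.1.1]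
  exact (vec_mem (mem_allList hn'.1.1.1.1.1.1)).2

theorem orbit2_conds {L : List Node} {n : Node} : ∀ (c : ℕ), L.all nodeOK = true →
    nodeOK n = true → (Nat.beq c 0 = false ∨ lOf (vec n.2.1) = lOf (vec n.1.1)) →
    MulAction.orbit (fixers2 L) (pv n.1.1) ⊆ censusSet (conds2 L n.1.1 c)
  | 0, hL, hn, hself => fun v hv => by
    have h2 := orbit2_fixed (L := L) hn (eqZ_iff.2 (hself.resolve_left (by decide))) hv
    exact ⟨h2.1, fun q hq => (List.mem_append.1 hq).elim ((orbit2_subset hL hn hv).2 q) (h2.2 q)⟩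
  | _ + 1, hL, hn, _ => orbit2_subset hL hn

theorem card_fixers2_cons {L : List Node} {n : Node} {c s : ℕ}
    (h : step2OK L (n, c, s) = true) :
    Nat.card (fixers2 L) ≤ Nat.card (fixers2 (n :: L)) * s := by
  haveI : Finite sixSuz := finite_sixSuz
  simp only [step2OK, Bool.and_eq_true, Nat.blt_eq, Bool.or_eq_true, Bool.not_eq_true',
    List.all_eq_true (l := classC2 _), decide_eq_true_eq, Nat.beq_eq, eqZ_iff] at h
  obtain ⟨⟨⟨⟨⟨hL, hn⟩, hself⟩, hC⟩, hs⟩, hpos⟩ := h
  have hcount : count (conds2 L n.1.1 c) = s := by rw [count_eq, count_class2 c hC, hs]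
  have hfin : (censusSet (conds2 L n.1.1 c)).Finite :=
    Set.finite_of_ncard_ne_zero (by rw [ncard_censusSet, hcount]; omega)
  have hsub := orbit2_conds c hL hn hself
  rw [← natCard_inf_stab (fixers2 L) (pv n.1.1)]
  refine Nat.mul_le_mul ?_ ?_
  · have : Finite (fixers2 (n :: L)) := Finite.of_injective
      (fun g => (⟨g.1, (mem_fixers g.2.1).1⟩ : sixSuz))
      fun a b hab => Subtype.ext (congrArg Subtype.val hab :)
    exact Subgroup.card_le_of_le (fixers2_inf_stab hn)
  · rw [← hcount, ← ncard_censusSet]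
    exact Set.ncard_le_ncard hsub hfin

/-- all steps -/
def chain2OK : List Node → List (Node × ℕ × ℕ) → Bool
  | _, [] => true
  | L, st :: r => step2OK L st && chain2OK (st.1 :: L) r

/-- the nodes in order of fixing -/
def chain2End : List Node → List (Node × ℕ × ℕ) → List Node
  | L, [] => L
  | L, st :: r => chain2End (st.1 :: L) r

theorem card_chain2 : ∀ (L : List Node) (st : List (Node × ℕ × ℕ)), chain2OK L st = true →
    Nat.card (fixers2 L) ≤ Nat.card (fixers2 (chain2End L st)) * (st.map fun q => q.2.2).prod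
  | L, [], _ => by simp [chain2End]
  | L, (n, c, s) :: r, h => by
    simp only [chain2OK, Bool.and_eq_true] at h
    refine (card_fixers2_cons h.1).trans ?_
    rw [List.map_cons, List.prod_cons, chain2End, mul_left_comm, mul_comm s]
    exact Nat.mul_le_mul_right _ (card_chain2 _ r h.2)

theorem chain2_split : chain2OK [] (steps2.take 4) = true ∧
    chain2OK (chain2End [] (steps2.take 4)) (steps2.drop 4) = true := by
  refine ⟨?_, ?_⟩ <;> decide +kernel

theorem chain2_prods : ((steps2.take 4).map fun q => q.2.2).prod = 155520 ∧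
    ((steps2.drop 4).map fun q => q.2.2).prod = 128 := by
  refine ⟨?_, ?_⟩ <;> decide +kernel

/-- all nodes -/
def allNodes : List Node := chain2End (chain2End [] (steps2.take 4)) (steps2.drop 4)

/-- the spanning vectors -/
def spanList2 : List SIdx :=
  (flat (steps2.map Prod.fst)).map (·.1) ++ (flat (steps2.map Prod.fst)).map (·.2.2.1)

theorem span2_ok : ((List.range 24).all fun i => (List.range 24).all fun j =>
    Nat.beq (combAt spanList2 (spanCo2.getD i []) j) (if i = j then 1 else 0)) = true := by
  decide +kernel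

theorem spanList2_ok : spanList2.all memOK = true := by decide +kernel

theorem flat_steps_ok : (flat (steps2.map Prod.fst)).all entOK = true ∧
    (steps2.map Prod.fst).all (fun n => decide (n ∈ allNodes)) = true := by
  refine ⟨?_, ?_⟩ <;> decide +kernel

theorem fixers2_end_eq_bot : fixers2 allNodes = ⊥ := by
  refine (Subgroup.eq_bot_iff_forall _).2 fun g hg => ?_
  obtain ⟨hg6, hfix⟩ := mem_fixers (Subgroup.mem_inf.1 hg).1
  have hsub : ∀ e ∈ flat (steps2.map Prod.fst), e ∈ flat allNodes := by
    intro e he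
    obtain ⟨n, hn, hen⟩ := List.mem_flatMap.1 he
    exact List.mem_flatMap.2 ⟨n, of_decide_eq_true (List.all_eq_true.1 flat_steps_ok.2 n hn), hen⟩
  have hm : redMap g = 1 := redMap_eq_one_of_span (sixSuz_le hg6) spanList2_ok span2_ok
    (span_fixed flat_steps_ok.1 hg6 fun e he => hfix e (hsub e he))
  refine colsOf_injective (sixSuz_le hg6) Co0.one_mem ?_
  simp only [colsOf, hm, redMap_one]

/-- the nodes spanning the fixed space -/
def fourNodes : List Node := chain2End [] (steps2.take 4)

theorem natCard_fixers2_four_le : Nat.card (fixers2 fourNodes) ≤ 128 := by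
  have h := card_chain2 _ _ chain2_split.2
  rw [chain2_prods.2] at h
  change Nat.card (fixers2 fourNodes) ≤ Nat.card (fixers2 allNodes) * 128 at h
  rwa [fixers2_end_eq_bot, Subgroup.card_bot, one_mul] at h

theorem natCard_fixers2_nil_le : Nat.card (fixers2 []) ≤ 19906560 := by
  have h := card_chain2 [] _ chain2_split.1
  rw [chain2_prods.1] at h
  exact h.trans (le_trans (Nat.mul_le_mul_right _ natCard_fixers2_four_le) (by norm_num))

end CfsgLib.Spor.SixSuz
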