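import Cfsg.Agent.Lib.Spor.SixSuz.InvolAct
import Cfsg.Agent.Lib.ThreeTransp.LargeQuotient
import Cfsg.Agent.Lib.ThreeTransp.ProductUnique
import Cfsg.Agent.Lib.Components.LocalLayer

/-!
The centraliser of an involution in the centraliser modulo its centre: an extraspecial group of
order `2^7` extended by `Ω⁻₆(2)`, the involution not weakly closed.
-/

set_option autoImplicit false
set_option maxRecDepth 100000
set_option maxHeartbeats 0

namespace CfsgLib.Spor.SixSuz

open Cfsg CfsgLib.Spor CfsgLib.Spor.Census CfsgLib.KnownB.Mult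
open scoped commutatorElement

/-- the image of the involution -/
noncomputable def zbar : sixSuz ⧸ zSub := QuotientGroup.mk tEl

/-- the map onto the centraliser of the image -/
noncomputable def piC : CT →* Subgroup.centralizer ({zbar} : Set (sixSuz ⧸ zSub)) :=
  ((QuotientGroup.mk' zSub).comp CT.subtype).codRestrict _ fun g =>
    Subgroup.mem_centralizer_singleton_iff.2 (congrArg (QuotientGroup.mk' zSub) (mem_CT.1 g.2))

theorem ker_piC : piC.ker = zC := by
  ext g
  simp only [piC, MonoidHom.ker_codRestrict, MonoidHom.mem_ker, MonoidHom.comp_apply,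
    QuotientGroup.mk'_apply, QuotientGroup.eq_one_iff, Subgroup.coe_subtype]
  constructor
  · intro h
    obtain ⟨m, hm⟩ := Subgroup.mem_zpowers_iff.1 h
    exact Subgroup.mem_zpowers_iff.2 ⟨m, Subtype.ext (by rw [← hm]; simp [zCT])⟩
  · intro h
    obtain ⟨m, rfl⟩ := Subgroup.mem_zpowers_iff.1 h
    exact Subgroup.mem_zpowers_iff.2 ⟨m, by simp [zCT]⟩

theorem piC_eq_one {a : CT} (ha : a ∈ K0) (h : piC a = 1) : a = 1 := by
  have : a ∈ K0 ⊓ zC := ⟨ha, ker_piC ▸ MonoidHom.mem_ker.2 h⟩
  rwa [disjoint_K0_zC, Subgroup.mem_bot] at this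

theorem piC_injOn {a b : CT} (ha : a ∈ K0) (hb : b ∈ K0) (h : piC a = piC b) : a = b := by
  refine mul_inv_eq_one.1 (piC_eq_one (mul_mem ha (inv_mem hb)) ?_)
  rw [map_mul, map_inv, h, mul_inv_cancel]

theorem x_cube : eqW (mulM (mulM (fastMat xProg) (fastMat xProg)) (fastMat xProg)) oneM = true ∧
    eqW (fastMat xProg) oneM = false := by
  refine ⟨?_, ?_⟩ <;> decide +kernel

/-- the element of order three in `Co0` -/
noncomputable def xC : Co0 := ⟨xEl, xEl_mem⟩

theorem xC_cube : xC ^ 3 = 1 := by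
  refine Subtype.ext (colsOf_injective (xC ^ 3).2 Co0.one_mem ?_)
  rw [show xC ^ 3 = xC * xC * xC by simp [pow_succ], Subgroup.coe_mul, Subgroup.coe_mul,
    colsOf_mul (Co0.mul_mem xC.2 xC.2), colsOf_mul xC.2, show (xC : Equiv.Perm leechLattice) = xEl
    from rfl, colsOf_xEl, eqW_iff.1 x_cube.1]
  exact colsOf_one.symm

theorem outL_data : (outL.all fun k => memOK k && eqZ
      (runP tProg (lOf (vec k))) ((lOf (vec k)).map fun x => -x)) = true ∧
    incr (outL.map key) = true ∧ Nat.blt fixL.length outL.length = true := by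
  refine ⟨?_, ?_, ?_⟩ <;> decide +kernel

theorem zH_pow_neg (w : leechLattice) : ((zH ^ 3 : sixSuz) : Equiv.Perm leechLattice) w = -w := by
  have hx : (xEl * xEl * xEl) w = w := by
    have h := congrArg (fun g : Co0 => (g : Equiv.Perm leechLattice) w) xC_cube
    rw [show xC ^ 3 = xC * xC * xC by simp [pow_succ]] at h
    exact h
  rw [show (zH ^ 3 : sixSuz) = zH * zH * zH by simp [pow_succ]]
  simp only [Subgroup.coe_mul, Equiv.Perm.mul_apply, zH_apply, apply_neg xEl_mem, neg_neg] at hx ⊢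
  rw [hx]

theorem outL_fixed {k : SIdx} (hk : k ∈ outL) :
    ((zH ^ 3 * tEl : sixSuz) : Equiv.Perm leechLattice) (pv k) = pv k := by
  have h := List.all_eq_true.1 outL_data.1 k hk
  simp only [Bool.and_eq_true, eqZ_iff] at h
  rw [Subgroup.coe_mul, Equiv.Perm.mul_apply, zH_pow_neg]
  refine Subtype.ext (lOf_inj ?_)
  have e : lOf (((tEl : Equiv.Perm leechLattice) (pv k) : leechLattice) : GolayPt → ℤ) =
      (lOf (vec k)).map fun x => -x := by
    refine (lOf_tEl (pv k)).trans ?_
    rw [pv_val h.1]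
    exact h.2
  rw [AddSubgroup.coe_neg, pv_val h.1]
  simp only [lOf, List.map_map] at e ⊢
  refine List.map_congr_left fun i hi => ?_
  have ei := List.map_inj_left.1 e i hi
  simp only [Function.comp_apply] at ei
  show -_ = _
  rw [ei, neg_neg]

theorem not_conj_neg (g : sixSuz) : g * tEl * g⁻¹ ≠ zH ^ 3 * tEl := by
  intro he
  classical
  have hnd : (outL.map pv).Nodup := by
    have hn : outL.Nodup := List.Nodup.of_map key
      ((incr_pairwise outL_data.2.1).imp fun h => Nat.ne_of_lt h)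
    refine hn.map_on fun k hk l hl e => ?_
    have hk' := List.all_eq_true.1 outL_data.1 k hk
    have hl' := List.all_eq_true.1 outL_data.1 l hl
    simp only [Bool.and_eq_true] at hk' hl'
    exact vec_injOn (mem_allList hk'.1) (mem_allList hl'.1)
      (by rw [← pv_val hk'.1, ← pv_val hl'.1, e])
  set f : Equiv.Perm leechLattice := (g : Equiv.Perm leechLattice)
  have hsub : (outL.map pv).toFinset.image (fun v => f⁻¹ v) ⊆ (fixL.map pv).toFinset := by
    intro w hw
    obtain ⟨v, hv, rfl⟩ := Finset.mem_image.1 hw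
    obtain ⟨k, hk, rfl⟩ := List.mem_map.1 (List.mem_toFinset.1 hv)
    have hk' := List.all_eq_true.1 outL_data.1 k hk
    simp only [Bool.and_eq_true] at hk'
    have hn : sqNorm ((f⁻¹ (pv k) : leechLattice) : GolayPt → ℤ) = 32 := by
      show sqNorm (((g⁻¹ : sixSuz) : Equiv.Perm leechLattice) (pv k) : GolayPt → ℤ) = 32
      rw [(sixSuz_le (g⁻¹ : sixSuz).2).2, pv_val hk'.1]
      exact (vec_mem (mem_allList hk'.1)).2
    have h1 : (tEl : Equiv.Perm leechLattice) (f⁻¹ (pv k)) = f⁻¹ (pv k) := by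
      have e : tEl * g⁻¹ = g⁻¹ * (zH ^ 3 * tEl) := by rw [← he]; group
      have := congrArg (fun u : sixSuz => (u : Equiv.Perm leechLattice) (pv k)) e
      simp only [Subgroup.coe_mul, InvMemClass.coe_inv, Equiv.Perm.mul_apply] at this
      rw [this]
      congr 1
      exact outL_fixed hk
    obtain ⟨k', hk'', e⟩ := mem_class fixL_ok fixL_inc fixL_len (mem_condsOut_of_fixed hn h1)
    exact List.mem_toFinset.2 (List.mem_map.2 ⟨k', hk'', e⟩)
  have h1 := Finset.card_le_card hsub
  rw [Finset.card_image_of_injective _ f⁻¹.injective, List.toFinset_card_of_nodup hnd,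
    List.length_map] at h1
  have h2 := (List.toFinset_card_le (fixL.map pv)).trans_eq (List.length_map _)
  have h3 : fixL.length < outL.length := by simpa [Nat.blt_eq] using outL_data.2.2
  omega

theorem piC_surjective : Function.Surjective piC := by
  rintro ⟨c, hc⟩
  obtain ⟨g, rfl⟩ := QuotientGroup.mk_surjective c
  have h := Subgroup.mem_centralizer_singleton_iff.1 hc
  have hmem : g * tEl * g⁻¹ * tEl⁻¹ ∈ zSub := by
    rw [← QuotientGroup.eq_one_iff]
    simp only [QuotientGroup.mk_mul, QuotientGroup.mk_inv]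
    rw [show (QuotientGroup.mk g : sixSuz ⧸ zSub) * QuotientGroup.mk tEl = zbar * QuotientGroup.mk g
      from h, mul_inv_cancel_right, zbar, mul_inv_cancel]
  obtain ⟨m, hm⟩ := Subgroup.mem_zpowers_iff.1 hmem
  rw [← zpow_mod_orderOf, orderOf_zH] at hm
  obtain ⟨k, hk⟩ := Int.eq_ofNat_of_zero_le (Int.emod_nonneg m (show ((6 : ℕ) : ℤ) ≠ 0 by norm_num))
  have hk6 : k < 6 := by
    have := Int.emod_lt_of_pos m (show (0 : ℤ) < ((6 : ℕ) : ℤ) by norm_num)
    omega
  rw [hk, zpow_natCast] at hm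
  have he : g * tEl * g⁻¹ = zH ^ k * tEl := by rw [hm]; group
  have ht : tEl * tEl = 1 := congrArg (fun u : CT => (u : sixSuz)) tCT_sq
  have hsq : zH ^ (2 * k) = 1 := by
    have h2 : g * tEl * g⁻¹ * (g * tEl * g⁻¹) = 1 := by
      rw [show g * tEl * g⁻¹ * (g * tEl * g⁻¹) = g * (tEl * tEl) * g⁻¹ by group, ht, mul_one,
        mul_inv_cancel]
    have hc : Commute tEl (zH ^ k) := Commute.pow_right (zH_central tEl) k
    rw [he, mul_assoc, ← mul_assoc tEl, hc.eq, mul_assoc, ht, mul_one, ← pow_add] at h2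
    rwa [two_mul]
  have hd := orderOf_dvd_of_pow_eq_one hsq
  rw [orderOf_zH] at hd
  have hk03 : k = 0 ∨ k = 3 := by omega
  rcases hk03 with rfl | rfl
  · rw [pow_zero, one_mul, mul_inv_eq_iff_eq_mul] at he
    exact ⟨⟨g, mem_CT.2 he⟩, rfl⟩
  · exact absurd he (not_conj_neg g)

theorem zC_le_ker : zC ≤ actHom.ker := by
  rw [act_cards.2.1]; exact le_sup_right

/-- the action of the centraliser -/
noncomputable def psiC : Subgroup.centralizer ({zbar} : Set (sixSuz ⧸ zSub)) →* G6 :=
  MonoidHom.liftOfSurjective piC piC_surjective ⟨actHom, ker_piC.trans_le zC_le_ker⟩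

theorem psiC_piC (g : CT) : psiC (piC g) = actHom g :=
  MonoidHom.liftOfRightInverse_comp_apply _ _ _ _ g

theorem ker_psiC : psiC.ker = K0.map piC := by
  ext c
  obtain ⟨g, rfl⟩ := piC_surjective c
  rw [MonoidHom.mem_ker, psiC_piC, ← MonoidHom.mem_ker, act_cards.2.1, Subgroup.mem_map]
  constructor
  · intro h
    obtain ⟨a, ha, b, hb, rfl⟩ := Subgroup.mem_sup_of_normal_right.1 h
    have hb' : piC b = 1 := by rw [← MonoidHom.mem_ker, ker_piC]; exact hb
    exact ⟨a, ha, by rw [map_mul, hb', mul_one]⟩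
  · rintro ⟨a, ha, e⟩
    have h1 : a⁻¹ * g ∈ zC := by
      rw [← ker_piC, MonoidHom.mem_ker, map_mul, map_inv, e, inv_mul_cancel]
    have := Subgroup.mul_mem_sup ha h1
    rwa [mul_inv_cancel_left] at this

theorem range_psiC : psiC.range = Cfsg.Omega (ZMod 2) qf := by
  rw [← range_actHom]
  ext x
  simp only [MonoidHom.mem_range]
  exact ⟨fun ⟨c, hc⟩ => by obtain ⟨g, rfl⟩ := piC_surjective c; exact ⟨g, (psiC_piC g).symm.trans hc⟩,
    fun ⟨g, hg⟩ => ⟨piC g, (psiC_piC g).trans hg⟩⟩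

theorem natCard_ker_psiC : Nat.card psiC.ker = 2 ^ 7 := by
  have h := Nat.card_eq_of_bijective
    (fun a : K0 => (⟨piC a, ker_psiC.symm ▸ Subgroup.mem_map_of_mem _ a.2⟩ : psiC.ker))
    ⟨fun a b e => Subtype.ext (piC_injOn a.2 b.2 (congrArg Subtype.val e)), fun c => by
      have hc : (c : Subgroup.centralizer ({zbar} : Set (sixSuz ⧸ zSub))) ∈ K0.map piC :=
        ker_psiC ▸ c.2
      obtain ⟨a, ha, e⟩ := Subgroup.mem_map.1 hc
      exact ⟨⟨a, ha⟩, Subtype.ext e⟩⟩
  rw [← h, natCard_K0]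
  norm_num

theorem qf_wit : ∀ w : Fin 64, w = 0 ∨ ∃ v : Fin 64, qf (bv w + bv v) ≠ qf (bv w) + qf (bv v) := by
  decide +kernel

theorem bits_eq_zero_of_commute {a : K0} (h : ∀ b : K0, a * b = b * a) : bits a = 0 := by
  refine (qf_wit (bits a)).resolve_right fun ⟨v, hv⟩ => hv ?_
  obtain ⟨b, rfl⟩ := bits_surjective v
  have h1 := sq_eq (a * b)
  have h2 : ((a * b : K0) : CT) * (a * b : K0) = (a : CT) * a * ((b : CT) * b) := by
    have hc : (a : CT) * b = b * a := congrArg Subtype.val (h b)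
    rw [Subgroup.coe_mul, mul_assoc, ← mul_assoc (b : CT), ← hc]
    simp only [mul_assoc]
  rw [h2, sq_eq a, sq_eq b, vq_mul] at h1
  have key : ∀ x y z : ZMod 2, (cond (decide (x = 1)) tCT 1) * (cond (decide (y = 1)) tCT 1) =
      cond (decide (z = 1)) tCT 1 → z = x + y := by
    intro x y z
    have two : ∀ u : ZMod 2, u = 0 ∨ u = 1 := by decide
    rcases two x with rfl | rfl <;> rcases two y with rfl | rfl <;> rcases two z with rfl | rfl <;>
      simp [tCT_sq, tCT_ne_one, Ne.symm tCT_ne_one] <;> decide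
  exact key _ _ _ h1

theorem comm_cases (a b : K0) : (a : CT) * b * (a : CT)⁻¹ * (b : CT)⁻¹ = 1 ∨
    (a : CT) * b * (a : CT)⁻¹ * (b : CT)⁻¹ = tCT := by
  have hinv : ∀ c : K0, vq c⁻¹ = vq c := fun c => by
    have h0 : vq c + vq c⁻¹ = 0 := by rw [← vq_mul, mul_inv_cancel, vq_one]
    rw [eq_neg_of_add_eq_zero_right h0]
    funext i
    exact ZModModule.neg_eq_self _
  have h : bits (a * b * a⁻¹ * b⁻¹) = 0 := bv_injective (by
    show vq _ = bv 0
    rw [← bits_one, ← vq, vq_mul, vq_mul, vq_mul, hinv, hinv, vq_one]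
    funext i
    simp only [Pi.add_apply, Pi.zero_apply]
    have : ∀ x y : ZMod 2, x + y + x + y = 0 := by decide
    exact this _ _)
  rcases bits_eq_zero h with e | e
  · exact Or.inl (congrArg Subtype.val e)
  · exact Or.inr (congrArg Subtype.val e)

theorem extraspecial_ker : IsExtraspecial 2 ↥psiC.ker := by
  have hP : IsPGroup 2 psiC.ker := IsPGroup.of_card natCard_ker_psiC
  have lift : ∀ e ∈ psiC.ker, ∃ a : K0, piC a = e := fun e he => by
    obtain ⟨a, ha, rfl⟩ := Subgroup.mem_map.1 (ker_psiC ▸ he : e ∈ K0.map piC)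
    exact ⟨⟨a, ha⟩, rfl⟩
  refine (CfsgLib.ThreeTransp.isExtraspecial_of psiC.ker (z := piC tCT) hP
    (ker_psiC.symm ▸ Subgroup.mem_map_of_mem _ tCT_mem) (fun h => tCT_ne_one (piC_eq_one tCT_mem h))
    (by rw [← map_mul, tCT_sq, map_one]) ?_ ?_ ?_ ?_ ?_).1
  · intro e he
    obtain ⟨a, rfl⟩ := lift e he
    rw [← map_mul, ← map_mul, tCT_central]
  · intro x hx y hy
    obtain ⟨a, rfl⟩ := lift x hx
    obtain ⟨b, rfl⟩ := lift y hy
    simp only [← map_inv, ← map_mul]
    rcases comm_cases a b with e | e <;> rw [e]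
    · exact Or.inl (map_one _)
    · exact Or.inr rfl
  · intro x hx
    obtain ⟨a, rfl⟩ := lift x hx
    rw [← map_mul, sq_eq]
    cases decide (qf (vq a) = 1)
    · exact Or.inl (map_one _)
    · exact Or.inr rfl
  · intro d hd hcom
    obtain ⟨a, rfl⟩ := lift d hd
    have h : bits a = 0 := bits_eq_zero_of_commute fun b => Subtype.ext (piC_injOn
      (mul_mem a.2 b.2) (mul_mem b.2 a.2) (by
        simp only [Subgroup.coe_mul, map_mul]
        exact (hcom _ (ker_psiC.symm ▸ Subgroup.mem_map_of_mem _ b.2)).symm))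
    rcases bits_eq_zero h with rfl | rfl
    · exact Or.inl (map_one _)
    · exact Or.inr rfl
  · by_contra hne
    simp only [not_exists, not_and, ne_eq, not_not] at hne
    have h := bits_eq_zero_of_commute (a := sK0 (1, false)) fun b => Subtype.ext (piC_injOn
      (mul_mem (sK0 (1, false)).2 b.2) (mul_mem b.2 (sK0 (1, false)).2) (by
        simp only [Subgroup.coe_mul, map_mul]
        exact hne _ (ker_psiC.symm ▸ Subgroup.mem_map_of_mem _ (sK0 (1, false)).2) _
          (ker_psiC.symm ▸ Subgroup.mem_map_of_mem _ b.2)))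
    rw [bits_sK0] at h
    exact absurd h (by decide)

theorem pCore_omega : pCore 2 ↥(Cfsg.Omega (ZMod 2) qf) = ⊥ := by
  haveI : IsSimpleGroup (commutator (CfsgLib.Geometry.orth CfsgLib.Classical.ESix.Q2) ⧸
      Subgroup.center (commutator (CfsgLib.Geometry.orth CfsgLib.Classical.ESix.Q2))) :=
    CfsgLib.Geometry.isSimpleGroup_omega_mod_center CfsgLib.Classical.ESix.nondeg_Q2
      (by rw [CfsgLib.Classical.ESix.finrank_V2]; norm_num)
  set W := commutator (CfsgLib.Geometry.orth CfsgLib.Classical.ESix.Q2) with hW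
  have hcen : Subgroup.center W = ⊥ := by
    rw [eq_bot_iff]
    intro z hz
    obtain ⟨t, ht, htv⟩ := (CfsgLib.Geometry.mem_center_omega_iff CfsgLib.Classical.ESix.nondeg_Q2
      (by rw [CfsgLib.Classical.ESix.finrank_V2]; norm_num) z).1 hz
    obtain rfl : t = 1 := (by decide : ∀ u : ZMod 2, u * u = 1 → u = 1) t ht
    refine Subgroup.mem_bot.2 (Subtype.ext (Subtype.ext (LinearEquiv.ext fun v => ?_)))
    rw [htv v, one_smul]
    rfl
  have hna : ¬ IsMulCommutative (W ⧸ Subgroup.center W) := fun h => by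
    have hc0 := CfsgLib.Classical.ESix.center_pOmega_two
    rw [← hW] at hc0
    haveI := h
    have h2 : Subgroup.center (W ⧸ Subgroup.center W) = ⊤ :=
      Subgroup.eq_top_iff' _ |>.2 fun a => Subgroup.mem_center_iff.2 fun b => h.is_comm.comm b a
    exact bot_ne_top (hc0.symm.trans h2)
  have hbot := CfsgLib.ThreeTransp.pCore_eq_bot_of_simple inferInstance hna
  let e0 : W ≃* W ⧸ Subgroup.center W := (QuotientGroup.quotientBot.symm).trans
    (QuotientGroup.quotientMulEquivOfEq hcen.symm)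
  have hq : (⇑CfsgLib.Classical.ESix.Q2 : V6 → ZMod 2) = qf :=
    CfsgLib.Geometry.coe_matQuad_minus 2 1 1
  let e := CfsgLib.Geometry.isomEquiv CfsgLib.Classical.ESix.Q2
  have hmap : (commutator (Cfsg.isometryGroup (ZMod 2) ⇑CfsgLib.Classical.ESix.Q2)).map e.toMonoidHom =
      W := by
    rw [hW, commutator_def, Subgroup.map_commutator, Subgroup.map_top_of_surjective _ e.surjective,
      commutator_def]
  have e1 : commutator (Cfsg.isometryGroup (ZMod 2) ⇑CfsgLib.Classical.ESix.Q2) ≃* W :=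
    ((commutator _).equivMapOfInjective e.toMonoidHom e.injective).trans
      (MulEquiv.subgroupCongr hmap)
  rw [hq] at e1
  have := CfsgLib.Base.map_pCore_mulEquiv (p := 2) (e1.trans e0)
  rw [hbot, Subgroup.map_eq_bot_iff_of_injective] at this
  · exact this
  · exact (e1.trans e0).injective

theorem pCore_centralizer : pCore 2 ↥(Subgroup.centralizer ({zbar} : Set (sixSuz ⧸ zSub))) =
    psiC.ker := by
  refine le_antisymm ?_ (CfsgLib.Base.le_pCore (IsPGroup.of_card natCard_ker_psiC))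
  intro x hx
  have h := CfsgLib.Base.map_pCore_le (p := 2) psiC.rangeRestrict psiC.rangeRestrict_surjective
    (Subgroup.mem_map_of_mem _ hx)
  have hb : pCore 2 psiC.range = ⊥ := by
    have := CfsgLib.Base.map_pCore_mulEquiv (p := 2) (MulEquiv.subgroupCongr range_psiC)
    rw [pCore_omega, Subgroup.map_eq_bot_iff_of_injective] at this
    · exact this
    · exact (MulEquiv.subgroupCongr range_psiC).injective
  rw [hb, Subgroup.mem_bot] at h
  exact MonoidHom.mem_ker.2 (congrArg Subtype.val h)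

theorem fstar_centralizer :
    generalizedFittingSubgroup ↥(Subgroup.centralizer ({zbar} : Set (sixSuz ⧸ zSub))) = psiC.ker := by
  haveI : Fact (Nat.Prime 2) := ⟨Nat.prime_two⟩
  rw [← pCore_centralizer, CfsgLib.Components.fstar_eq_pCore_iff, pCore_centralizer]
  intro c hc
  obtain ⟨g, rfl⟩ := piC_surjective c
  rw [MonoidHom.mem_ker, psiC_piC]
  refine actHom_eq_one fun a => congrArg vq (Subtype.ext ?_)
  refine piC_injOn (K0_normal.conj_mem _ a.2 g) a.2 ?_
  show piC (g * a * g⁻¹) = _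
  rw [map_mul, map_mul, map_inv,
    ← Subgroup.mem_centralizer_iff.1 hc _ (ker_psiC.symm ▸ Subgroup.mem_map_of_mem _ a.2),
    mul_inv_cancel_right]

theorem uProg_fix : fixOK uProg = true := by decide +kernel

theorem uMat_ok : eqW uMat (fastMat uProg) = true := by decide +kernel

/-- the element moving the involution -/
noncomputable def uEl : sixSuz := hEl uProg uProg_fix

theorem moved_ok : eqW (mulM uMat tMat)
    (mulM (mulM (zPows.getD 3 []) (pMats.getD 1 [])) uMat) = true := by decide +kernel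

theorem conj_uEl : uEl * tEl = zH ^ 3 * (pEl 1 : sixSuz) * uEl := by
  refine Subtype.ext (colsOf_injective (sixSuz_le (Subtype.property _))
    (sixSuz_le (Subtype.property _)) ?_)
  have hp : colsOf (((pEl 1 : CT) : sixSuz) : Equiv.Perm leechLattice) = pMats.getD 1 [] :=
    colsOf_pEl 1
  simp only [Subgroup.coe_mul]
  rw [colsOf_mul (sixSuz_le uEl.2), colsOf_mul, colsOf_mul (sixSuz_le (zH ^ 3).2), colsOf_tEl,
    colsOf_zpow 3 (by norm_num), hp, uEl, colsOf_hEl, ← eqW_iff.1 uMat_ok]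
  · exact eqW_iff.1 moved_ok
  · exact Co0.mul_mem (sixSuz_le (zH ^ 3).2) (sixSuz_le (pEl 1 : sixSuz).2)

theorem orderOf_zbar : orderOf zbar = 2 := by
  refine orderOf_eq_prime ?_ fun h => ?_
  · rw [pow_two, zbar, ← QuotientGroup.mk_mul,
      show tEl * tEl = 1 from congrArg (fun u : CT => (u : sixSuz)) tCT_sq, QuotientGroup.mk_one]
  · exact tCT_ne_one (piC_eq_one tCT_mem (Subtype.ext h))

theorem moved_zbar : ∃ g : sixSuz ⧸ zSub,
    (∃ hq : g * zbar * g⁻¹ ∈ Subgroup.centralizer ({zbar} : Set (sixSuz ⧸ zSub)),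
      (⟨g * zbar * g⁻¹, hq⟩ : Subgroup.centralizer ({zbar} : Set (sixSuz ⧸ zSub))) ∈ psiC.ker) ∧
      g * zbar * g⁻¹ ≠ zbar := by
  refine ⟨QuotientGroup.mk uEl, ?_⟩
  have h3 : zH ^ 3 ∈ zSub := Subgroup.npow_mem_zpowers zH 3
  have e : (QuotientGroup.mk uEl : sixSuz ⧸ zSub) * zbar * (QuotientGroup.mk uEl)⁻¹ =
      (piC (pEl 1) : sixSuz ⧸ zSub) := by
    rw [mul_inv_eq_iff_eq_mul]
    show (QuotientGroup.mk uEl : sixSuz ⧸ zSub) * QuotientGroup.mk tEl = _
    rw [← QuotientGroup.mk_mul, conj_uEl, QuotientGroup.mk_mul,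
      QuotientGroup.mk_mul,
      (QuotientGroup.eq_one_iff (N := zSub) _).2 h3, one_mul]
    rfl
  have hp : pEl 1 ∈ K0 := sEl_mem (1, false)
  refine ⟨⟨e ▸ (piC (pEl 1)).2, ?_⟩, fun h => ?_⟩
  · rw [show (⟨_, e ▸ (piC (pEl 1)).2⟩ : Subgroup.centralizer ({zbar} : Set (sixSuz ⧸ zSub))) =
      piC (pEl 1) from Subtype.ext e]
    exact ker_psiC.symm ▸ Subgroup.mem_map_of_mem _ hp
  · have h1 : pEl 1 = tCT := piC_injOn hp tCT_mem (Subtype.ext (e.symm.trans h))
    have h2 := bits_sK0 1 false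
    rw [show sK0 (1, false) = tK from Subtype.ext h1, bits_tK] at h2
    exact absurd h2 (by decide)

/-- the centraliser modulo its centre, with the stated involution centraliser -/
theorem exists_invol : ∃ z : sixSuz ⧸ zSub, orderOf z = 2 ∧
    ∃ (Q : Subgroup (Subgroup.centralizer ({z} : Set (sixSuz ⧸ zSub)))) (_ : Q.Normal),
      Cfsg.generalizedFittingSubgroup (Subgroup.centralizer ({z} : Set (sixSuz ⧸ zSub))) = Q ∧
      Cfsg.IsExtraspecial 2 Q ∧ Nat.card Q = 2 ^ 7 ∧
      Nonempty ((Subgroup.centralizer ({z} : Set (sixSuz ⧸ zSub))) ⧸ Q ≃*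
        Cfsg.Omega (ZMod 2) (Cfsg.quadFormMinus 2 (ZMod 2) 1 1)) ∧
      ∃ g : sixSuz ⧸ zSub, (∃ hq : g * z * g⁻¹ ∈ Subgroup.centralizer ({z} : Set (sixSuz ⧸ zSub)),
        (⟨g * z * g⁻¹, hq⟩ : Subgroup.centralizer ({z} : Set (sixSuz ⧸ zSub))) ∈ Q) ∧
        g * z * g⁻¹ ≠ z :=
  ⟨zbar, orderOf_zbar, psiC.ker, inferInstance, fstar_centralizer, extraspecial_ker,
    natCard_ker_psiC,
    ⟨(QuotientGroup.quotientKerEquivRange psiC).trans (MulEquiv.subgroupCongr range_psiC)⟩,
    moved_zbar⟩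

theorem simple_quot : IsSimpleGroup (sixSuz ⧸ zSub) ∧ ¬ IsMulCommutative (sixSuz ⧸ zSub) := by
  have e := (MulEquiv.ofBijective phi phi_bijective).symm
  haveI hS := CfsgLib.Spor.Suz.isSuz.1
  refine ⟨CfsgLib.ThreeTransp.isSimpleGroup_of_equiv e hS, fun h => ?_⟩
  haveI := CfsgLib.Spor.Suz.finite
  haveI := CfsgLib.ThreeTransp.isSimpleGroup_of_equiv e hS
  haveI := h
  letI : CommGroup (sixSuz ⧸ zSub) :=
    { (inferInstance : Group (sixSuz ⧸ zSub)) with mul_comm := h.is_comm.comm }
  have hp : (Nat.card (sixSuz ⧸ zSub)).Prime := IsSimpleGroup.prime_card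
  rw [← Nat.card_eq_of_bijective phi phi_bijective, CfsgLib.Spor.Suz.natCard] at hp
  norm_num at hp

theorem orderOf_xC : orderOf xC = 3 := by
  haveI : Fact (Nat.Prime 3) := ⟨Nat.prime_three⟩
  refine orderOf_eq_prime xC_cube fun h => ?_
  have h' := congrArg (fun g : Co0 => colsOf (g : Equiv.Perm leechLattice)) h
  simp only [OneMemClass.coe_one, colsOf_one] at h'
  rw [show colsOf (xC : Equiv.Perm leechLattice) = fastMat xProg from colsOf_xEl] at h'
  exact absurd (eqW_iff.2 h') (by rw [x_cube.2]; decide)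

theorem zH_coe : (⟨(zH : Equiv.Perm leechLattice), sixSuz_le zH.2⟩ : Co0) = negEl * xC :=
  Subtype.ext (Equiv.ext fun v => by
    show (zH : Equiv.Perm leechLattice) v = negEl • (xC • v)
    rw [negEl_smul, zH_apply]
    rfl)

/-- the centraliser of the subgroup of order three -/
noncomputable def centEquiv :
    Subgroup.centralizer ((Subgroup.zpowers xC : Subgroup Co0) : Set Co0) ≃* sixSuz where
  toFun g := ⟨((g : Co0) : Equiv.Perm leechLattice), (g : Co0).2,
    Subgroup.mem_centralizer_singleton_iff.2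
      (congrArg Subtype.val (Subgroup.mem_centralizer_iff.1 g.2 xC (Subgroup.mem_zpowers xC))).symm⟩
  invFun g := ⟨⟨(g : Equiv.Perm leechLattice), sixSuz_le g.2⟩, Subgroup.mem_centralizer_iff.2 fun y hy => by
    obtain ⟨m, rfl⟩ := Subgroup.mem_zpowers_iff.1 hy
    have h : Commute (⟨(g : Equiv.Perm leechLattice), sixSuz_le g.2⟩ : Co0) xC := Subtype.ext
      (Subgroup.mem_centralizer_singleton_iff.1 (Subgroup.mem_inf.1 g.2).2)
    exact (h.zpow_right m).symm⟩
  left_inv _ := rfl
  right_inv _ := rfl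
  map_mul' _ _ := rfl

theorem sup_eq_zpowers :
    Subgroup.zpowers xC ⊔ Subgroup.center Co0 = Subgroup.zpowers (negEl * xC) := by
  have hn2 : negEl * negEl = 1 := Subtype.ext (Equiv.ext fun v => by
    show negEl • (negEl • v) = v
    rw [negEl_smul, negEl_smul, neg_neg])
  have hc : Commute negEl xC := (Subgroup.mem_center_iff.1 negEl_central xC).symm
  have h4 : (negEl * xC) ^ 4 = xC := by
    rw [hc.mul_pow, show negEl ^ 4 = (negEl * negEl) * (negEl * negEl) by simp [pow_succ, mul_assoc], hn2,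
      show xC ^ 4 = xC ^ 3 * xC from pow_succ xC 3, xC_cube, one_mul, one_mul, one_mul]
  have h3 : (negEl * xC) ^ 3 = negEl := by
    rw [hc.mul_pow, xC_cube, show negEl ^ 3 = (negEl * negEl) * negEl by simp [pow_succ], hn2, one_mul, mul_one]
  refine le_antisymm (sup_le (Subgroup.zpowers_le.2 ?_) fun c hc' => ?_)
    (Subgroup.zpowers_le.2 (mul_mem (Subgroup.mem_sup_right negEl_central)
      (Subgroup.mem_sup_left (Subgroup.mem_zpowers xC))))
  · have := Subgroup.npow_mem_zpowers (negEl * xC) 4; rwa [h4] at this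
  · rcases eq_of_central hc' with rfl | rfl
    · exact one_mem _
    · have := Subgroup.npow_mem_zpowers (negEl * xC) 3; rwa [h3] at this

theorem subgroupOf_eq :
    (Subgroup.zpowers xC ⊔ Subgroup.center Co0).subgroupOf
      (Subgroup.centralizer ((Subgroup.zpowers xC : Subgroup Co0) : Set Co0)) =
    zSub.comap centEquiv.toMonoidHom := by
  ext g
  rw [Subgroup.mem_subgroupOf, sup_eq_zpowers, ← zH_coe, Subgroup.mem_comap, zSub,
    Subgroup.mem_zpowers_iff, Subgroup.mem_zpowers_iff]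
  refine exists_congr fun m => ?_
  constructor
  · intro h
    refine Subtype.ext ?_
    rw [SubgroupClass.coe_zpow]
    have := congrArg Subtype.val h
    rw [SubgroupClass.coe_zpow] at this
    exact this
  · intro h
    refine Subtype.ext ?_
    rw [SubgroupClass.coe_zpow]
    have := congrArg Subtype.val h
    rw [SubgroupClass.coe_zpow] at this
    exact this

end CfsgLib.Spor.SixSuz
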